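import Cfsg.Agent.Lib.W4.Defs

/-!
# Centralizers modulo a subgroup, normal closures and Goldschmidt's lemma
-/

set_option autoImplicit false
set_option linter.unusedSectionVars false

namespace Cfsg.Agent.W4

open Subgroup Cfsg.Agent.OO Cfsg.Agent.GW Cfsg.Agent.Coprime
open scoped commutatorElement Pointwise

universe u

variable {G : Type u} [Group G] {A B C D H K L M N S W X Y Z : Subgroup G} {a g x y : G}

/-- the centralizer of `X` modulo `N` -/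
def CM (N X : Subgroup G) : Subgroup G where
  carrier := {g | g ∈ 𝐍(N) ∧ ∀ x ∈ X, ⁅g, x⁆ ∈ N}
  one_mem' := ⟨one_mem _, fun x _ => by simp⟩
  mul_mem' := fun {g h} hg hh => ⟨mul_mem hg.1 hh.1, fun x hx => by
    rw [show ⁅g * h, x⁆ = g * ⁅h, x⁆ * g⁻¹ * ⁅g, x⁆ by simp only [commutatorElement_def]; group]
    exact mul_mem (conj_mem_of_norm hg.1 (hh.2 x hx)) (hg.2 x hx)⟩
  inv_mem' := fun {g} hg => ⟨inv_mem hg.1, fun x hx => by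
    rw [show ⁅g⁻¹, x⁆ = g⁻¹ * ⁅g, x⁆⁻¹ * g by simp only [commutatorElement_def]; group]
    exact conj_mem_of_norm' hg.1 (inv_mem (hg.2 x hx))⟩

theorem le_CM : Y ≤ CM N X ↔ Y ≤ 𝐍(N) ∧ ⁅Y, X⁆ ≤ N :=
  ⟨fun h => ⟨fun _ hy => (h hy).1, commutator_le.2 fun _ hy => (h hy).2⟩,
    fun h _ hy => ⟨h.1 hy, commutator_le.1 h.2 _ hy⟩⟩

theorem CM_symm (h : Y ≤ CM N X) (hX : X ≤ 𝐍(N)) : X ≤ CM N Y :=
  le_CM.2 ⟨hX, commutator_comm Y X ▸ (le_CM.1 h).2⟩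

theorem CM_anti (h : X ≤ Y) : CM N Y ≤ CM N X := fun _ hg => ⟨hg.1, fun x hx => hg.2 x (h hx)⟩

theorem le_CM_of_cent (h : Y ≤ 𝐂(X)) (hn : Y ≤ 𝐍(N)) : Y ≤ CM N X :=
  le_CM.2 ⟨hn, (commutator_eq_bot_iff.2 h).le.trans bot_le⟩

theorem le_CM_sup (h : Y ≤ CM N X) (hX : X ≤ 𝐍(N)) : Y ≤ CM N (X ⊔ N) :=
  CM_symm (sup_le (CM_symm h hX) (le_CM.2 ⟨le_norm_self N, commutator_le_left' (le_CM.1 h).1⟩))
    (le_CM.1 h).1

theorem le_norm_CM (h1 : A ≤ 𝐍(N)) (h2 : A ≤ 𝐍(X)) : A ≤ 𝐍(CM N X) :=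
  le_norm_iff.2 fun a ha g hg => ⟨conj_mem_of_norm (le_norm_norm h1 ha) hg.1, fun x hx => by
    rw [show ⁅a * g * a⁻¹, x⁆ = a * ⁅g, a⁻¹ * x * a⁆ * a⁻¹ by
      simp only [commutatorElement_def]; group]
    exact conj_mem_of_norm (h1 ha) (hg.2 _ (conj_mem_of_norm' (h2 ha) hx))⟩

theorem commutator_le_of_norm (h1 : Y ≤ 𝐍(K)) (h2 : C ≤ K) : ⁅Y, C⁆ ≤ K :=
  (commutator_mono le_rfl h2).trans (commutator_le_right' h1)

/-- the subgroup generated by the 2-elements -/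
def T2 (H : Subgroup G) : Subgroup G := closure {x | x ∈ H ∧ ∃ n : ℕ, x ^ 2 ^ n = 1}

theorem T2_le_iff : T2 H ≤ K ↔ ∀ x ∈ H, (∃ n : ℕ, x ^ 2 ^ n = 1) → x ∈ K :=
  (closure_le K).trans ⟨fun h _ h1 h2 => h ⟨h1, h2⟩, fun h _ h1 => h _ h1.1 h1.2⟩

theorem T2_le (H : Subgroup G) : T2 H ≤ H := T2_le_iff.2 fun _ h _ => h

theorem le_T2 (h : W ≤ H) (h2 : IsPGroup 2 W) : W ≤ T2 H := fun x hx => by
  obtain ⟨n, hn⟩ := h2 ⟨x, hx⟩
  exact subset_closure ⟨h hx, n, congrArg Subtype.val hn⟩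

theorem T2_mono (h : H ≤ K) : T2 H ≤ T2 K := closure_mono fun _ hx => ⟨h hx.1, hx.2⟩

theorem le_norm_T2 (h : A ≤ 𝐍(H)) : A ≤ 𝐍(T2 H) :=
  le_norm_closure fun a ha x ⟨h1, n, h2⟩ => ⟨conj_mem_of_norm (h ha) h1, n, by
    rw [conj_pow, h2, mul_one, mul_inv_cancel]⟩

theorem T2_conj (g : G) (H : Subgroup G) : g •ᶜ T2 H ≤ T2 (g •ᶜ H) := by
  rw [conj_le_iff_le_inv_conj, T2_le_iff]
  rintro x h1 ⟨n, h2⟩
  rw [mem_conj, inv_inv]
  exact subset_closure ⟨conj_mem_conj h1, n, by rw [conj_pow, h2, mul_one, mul_inv_cancel]⟩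

/-- the normal closure -/
def ncl (W X : Subgroup G) : Subgroup G := closure {y | ∃ x ∈ X, ∃ w ∈ W, y = x * w * x⁻¹}

theorem le_ncl (W X : Subgroup G) : W ≤ ncl W X := fun w hw =>
  subset_closure ⟨1, one_mem _, w, hw, by simp⟩

theorem ncl_le (h1 : W ≤ Y) (h2 : X ≤ 𝐍(Y)) : ncl W X ≤ Y :=
  (closure_le Y).2 fun _ ⟨_, hx, _, hw, e⟩ => e ▸ conj_mem_of_norm (h2 hx) (h1 hw)

theorem norm_ncl (W X : Subgroup G) : X ≤ 𝐍(ncl W X) :=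
  le_norm_closure fun a ha _ ⟨x, hx, w, hw, e⟩ => ⟨a * x, mul_mem ha hx, w, hw, by rw [e]; group⟩

theorem ncl_conj (g : G) (W X : Subgroup G) : g •ᶜ ncl (A ⊓ W) (T2 X) ≤
    ncl (g •ᶜ A ⊓ g •ᶜ W) (T2 (g •ᶜ X)) := by
  rw [conj_le_iff_le_inv_conj, ncl, closure_le]
  rintro _ ⟨x, hx, w, hw, rfl⟩
  rw [SetLike.mem_coe, mem_conj, inv_inv]
  exact subset_closure ⟨_, T2_conj g X (conj_mem_conj hx), _,
    ⟨conj_mem_conj hw.1, conj_mem_conj hw.2⟩, by group⟩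

variable [Finite G]

theorem cop (hY : Odd ♯Y) (hC : IsPGroup 2 C) : (♯Y).Coprime ♯C :=
  (coprime_of_isPGroup hC (odd_iff.1 hY)).symm

theorem cent_prod (hY : Odd ♯Y) (hC : IsPGroup 2 C) (hn : C ≤ 𝐍(Y)) : ⁅Y, C⁆ ⊔ Y ⊓ 𝐂(C) = Y :=
  coprime_cent_prod hn (cop hY hC) (.inl (sol_of_odd hY))

theorem le_of_cent_prod (hY : Odd ♯Y) (hC : IsPGroup 2 C) (hn : C ≤ 𝐍(Y)) (h1 : ⁅Y, C⁆ ≤ K)
    (h2 : Y ⊓ 𝐂(C) ≤ K) : Y ≤ K := cent_prod hY hC hn ▸ sup_le h1 h2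

theorem commG (hY : Odd ♯Y) (hC : IsPGroup 2 C) (hn : C ≤ 𝐍(Y)) : ⁅⁅Y, C⁆, C⁆ = ⁅Y, C⁆ :=
  coprime_commGid hn (cop hY hC) (.inl (sol_of_odd hY))

theorem O_inf_le (h : K ≤ H) : O H ⊓ K ≤ O K := Opi_inf_le _ h

theorem O_le (H : Subgroup G) : O H ≤ H := Opi_le _ _

theorem le_norm_O (h : A ≤ 𝐍(H)) : A ≤ 𝐍(O H) := le_norm_Opi _ h

theorem inf_eq_bot_odd (hC : IsPGroup 2 C) (hY : Odd ♯Y) : C ⊓ Y = ⊥ :=
  inf_eq_bot_of_coprime_card (cop hY hC).symm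

theorem le_T2_sup (hS : Syl 2 S ⊤) (h : S ≤ H) : H ≤ T2 H ⊔ H ⊓ 𝐍(S) :=
  ((hS.mono (le_T2 h hS.isPGroup) le_top).frattini ⟨T2_le H, le_norm_T2 (le_norm_self H)⟩).sup_eq.ge

theorem T2_le_of_odd (hY : Odd ♯Y) (hn : Y ≤ 𝐍(K)) : T2 (K ⊔ Y) ≤ K :=
  T2_le_iff.2 fun x hx ⟨n, h⟩ => zpowers_le.1 (le_of_coprime_relIndex (zpowers_le.2 hx)
    (sup_le (le_norm_self K) hn) (by
      rw [relIndex_sup_eq' (.inr hn), Nat.card_zpowers]
      exact Nat.Coprime.of_dvd (orderOf_dvd_of_pow_eq_one h) (relIndex_dvd_card K Y)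
        (Nat.Coprime.pow_left n (Nat.coprime_two_left.2 hY))))

theorem not_isCyclic (hC : IsElementaryAbelian 2 C) (h : 2 < ♯C) : ¬ IsCyclic C := fun h1 => by
  obtain ⟨x, rfl⟩ := exists_zpowers_eq h1
  rw [Nat.card_zpowers] at h
  exact absurd (Nat.le_of_dvd two_pos (orderOf_dvd_of_pow_eq_one (hC.2 x (mem_zpowers x)))) h.not_ge

theorem gen1 (hC : IsElementaryAbelian 2 C) (h : 2 < ♯C) (hY : Odd ♯Y) (hn : C ≤ 𝐍(Y))
    (hK : ∀ c ∈ C, c ≠ 1 → Y ⊓ 𝐂[c] ≤ K) : Y ≤ K :=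
  coprime_abelian_gen_cent1 (abelem_ab hC) (not_isCyclic hC h) hn (cop hY (abelem_isPGroup hC)) hK

theorem genH (hC : IsElementaryAbelian 2 C) (h : C ≠ ⊥) (hY : Odd ♯Y) (hn : C ≤ 𝐍(Y))
    (hK : ∀ D ≤ C, D.relIndex C = 2 → Y ⊓ 𝐂(D) ≤ K) : Y ≤ K :=
  le_of_forall_hyperplane (abelem_ab hC) hC.2 h hn (cop hY (abelem_isPGroup hC)).symm hK

/-- Goldschmidt's lemma -/
theorem lemG (hC : IsElementaryAbelian 2 C) (h0 : C ≠ ⊥) (Y : Subgroup G) : Odd ♯Y → C ≤ 𝐍(Y) →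
    Y ⊓ 𝐂(C) ≤ 𝐍(Z) → (∀ D ≤ C, D.relIndex C = 2 → ⁅Y ⊓ 𝐂(D), C⁆ ⊓ 𝐂(C) ≤ Z) →
    ⁅Y, C⁆ ⊓ 𝐂(C) ≤ Z := by
  induction Y using WellFoundedLT.induction with
  | ind Y ih =>
  intro hY hn hZ h
  have c2 := abelem_isPGroup hC
  replace ih : ∀ M < Y, C ≤ 𝐍(M) → ⁅M, C⁆ ⊓ 𝐂(C) ≤ Z := fun M h1 h2 =>
    ih M h1 (odd_of_le hY h1.le) h2 ((inf_le_inf_right _ h1.le).trans hZ) fun D h3 h4 =>
      (inf_le_inf_right _ (commutator_mono (inf_le_inf_right _ h1.le) le_rfl)).trans (h D h3 h4)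
  rcases (commutator_le_left' hn).lt_or_eq with h1 | h1
  · exact commG hY c2 hn ▸ ih _ h1 (le_norm_commutator_right _ _)
  rw [h1]
  by_cases hb : Y = ⊥
  · simp [hb]
  have h2 : Y ⊓ 𝐂(C) ≤ der Y := inf_centralizer_le_commutator hn (cop hY c2).symm h1
  obtain ⟨D, hD, hD2, h3⟩ : ∃ D ≤ C, D.relIndex C = 2 ∧ ¬ Y ⊓ 𝐂(D) ≤ der Y := by
    by_contra! e
    exact (der_lt (sol_of_odd hY) hb).not_ge (genH hC h0 hY hn e)
  have d2 := c2.to_le hD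
  have hCD : C ≤ 𝐂(D) := (abelem_le_cent hC).trans (cent_anti hD)
  set M := ⁅Y, D⁆ ⊔ der Y with hM
  set E := ⁅Y ⊓ 𝐂(D), C⁆ with hE
  have m1 : M ≤ Y := sup_le (commutator_le_left' (hD.trans hn)) (der_le Y)
  have m2 : Y ≤ 𝐍(M) := le_norm_of_der_le le_sup_right m1
  have m3 : C ≤ 𝐍(M) := le_norm_sup (le_norm_commutator hn (le_norm_of_le_cent hCD))
    (hn.trans (norm_le_norm_der Y))
  have m4 : M < Y := m1.lt_of_ne fun e => h3 ((le_inf le_rfl (inf_le_left.trans e.ge)).trans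
    (centralizer_inf_commutator_sup_le (hD.trans hn) ((hD.trans hn).trans (norm_le_norm_der Y))
      (der_le Y) le_rfl ((cop hY d2).symm.of_dvd_right (relIndex_dvd_card _ _))))
  have n1 : C ≤ 𝐍(Y ⊓ 𝐂(D)) := le_norm_inf hn (le_norm_of_le hCD)
  have e1 : E ≤ Y ⊓ 𝐂(D) := commutator_le_left' n1
  have e2 : Y ≤ M ⊔ E := le_of_cent_prod hY d2 (hD.trans hn) (le_sup_left.trans le_sup_left)
    (le_of_cent_prod (odd_of_le hY inf_le_left) c2 n1 le_sup_right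
      ((inf_le_inf_right _ inf_le_left).trans (h2.trans (le_sup_right.trans le_sup_left))))
  set Z₀ := Y ⊓ 𝐂(C) ⊓ Z with hZ₀
  set M₁ := ⁅M, C⁆ ⊔ Z₀ with hM₁
  have z1 : Y ⊓ 𝐂(C) ≤ 𝐍(⁅M, C⁆) :=
    le_norm_commutator (inf_le_left.trans m2) (le_norm_of_le_cent inf_le_right)
  have z2 : M₁ ⊓ 𝐂(C) ≤ Z := by
    rw [sup_inf_of_le_right (.inr (inf_le_left.trans z1)) (inf_le_left.trans inf_le_right)]
    exact sup_le (ih M m4 m3) inf_le_right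
  have z3 : M₁ ≤ M := sup_le (commutator_le_left' m3) (inf_le_left.trans (h2.trans le_sup_right))
  have z4 : E ⊓ M ≤ M₁ := le_of_cent_prod (odd_of_le hY (inf_le_right.trans m1)) c2
    (le_norm_inf (le_norm_commutator_right _ _) m3)
    ((commutator_mono inf_le_right le_rfl).trans le_sup_left)
    ((le_inf (inf_le_inf_right _ (inf_le_right.trans m1))
      ((inf_le_inf_right _ inf_le_left).trans (h D hD hD2))).trans le_sup_right)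
  have z5 : M ≤ 𝐍(M₁) := le_of_cent_prod (odd_of_le hY m1) c2 m3 (le_norm_of_le le_sup_left)
    ((inf_le_inf_right _ m1).trans (le_norm_sup z1 (le_norm_inf (le_norm_self _) hZ)))
  have z6 : ⁅M, E⁆ ≤ M₁ := by
    have e := cent_prod (odd_of_le hY m1) d2 (hD.trans m3)
    refine (commutator_mono e.ge le_rfl).trans (commutator_sup_le (e.le.trans z5) ((commutator_le_left' (le_norm_commutator
      ((e1.trans inf_le_left).trans m2) (le_norm_of_le_cent (e1.trans inf_le_right)))).trans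
      ((commutator_mono le_rfl hD).trans le_sup_left)) (le_trans (le_inf ?_ ?_) z4))
    · exact commutator_le_right' ((inf_le_inf_right _ m1).trans (le_norm_commutator_left _ _))
    · exact (commutator_mono inf_le_left le_rfl).trans
        (commutator_le_left' ((e1.trans inf_le_left).trans m2))
  have z7 : Y ≤ 𝐍(M₁) := e2.trans (sup_le z5 (le_norm_of_commutator_le z3 z6))
  have z8 : Y ≤ CM M₁ M := h1 ▸ commutator_le_of_norm (le_norm_CM z7 m2) (le_CM.2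
    ⟨le_norm_sup (le_norm_commutator_right _ _) (le_norm_of_le_cent (le_cent_symm
      (inf_le_left.trans inf_le_right))), commutator_comm M C ▸ le_sup_left⟩)
  have z9 : Y ≤ CM M₁ E := e2.trans (sup_le (le_CM.2 ⟨z5, z6⟩) (le_CM.2
    ⟨(e1.trans inf_le_left).trans z7, (le_inf (der_le E)
      ((der_mono (e1.trans inf_le_left)).trans le_sup_right)).trans z4⟩))
  have z10 : der Y ≤ M₁ := (le_CM.1 (e2.trans (sup_le (CM_symm z8 z5)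
    (CM_symm z9 ((e1.trans inf_le_left).trans z7))))).2
  exact (le_inf (h2.trans z10) inf_le_right).trans z2

end Cfsg.Agent.W4
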