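import Cfsg.Agent.Lib.W4.Theta
import Cfsg.Agent.Lib.ZL.SEB

/-!
# Walter's theorem: rank at least 4
-/

set_option autoImplicit false
set_option linter.unusedSectionVars false

namespace Cfsg.Agent.W4

open Subgroup Cfsg.Agent.OO Cfsg.Agent.GW Cfsg.Agent.Coprime
open scoped commutatorElement Pointwise

universe u

variable {G : Type u} [Group G] [Finite G] {A B C C' D E H K L L' M N S U W W' X Y Z : Subgroup G}
  {a b c d g k m n w x y : G} {𝓛 : Set (Subgroup G)}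

/-- the component belonging to a pair -/
def lam (W C : Subgroup G) : Subgroup G := ncl W (T2 𝐂(C))

theorem exists_central (h2 : R1.Ab2 G) (ha : a * a = 1) (hb : b * b = 1) (h : ¬ IsConj b a) :
    ∃ z g, z ∈ 𝐂[a] ∧ z ∈ 𝐂[b] ∧ b * z = g * a * g⁻¹ := by
  obtain ⟨r, hr⟩ : 2 ∣ orderOf (a * b) := by_contra fun e =>
    (R1.exists_conj_of_odd ha hb e).elim fun _ e => h (isConj_iff.2 ⟨_, e⟩)
  have h0 := orderOf_pos (a * b)
  have e1 : b * (a * b) * b⁻¹ = (a * b)⁻¹ := by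
    rw [mul_inv_rev, inv_eq ha, inv_eq hb, ← mul_assoc, mul_assoc, hb, mul_one]
  have e2 : ∀ j : ℕ, b * (a * b) ^ j * b⁻¹ = ((a * b) ^ j)⁻¹ := fun j => by
    rw [← conj_pow, e1, inv_pow]
  have e3 : ∀ j : ℕ, (a * b) ^ (j + j) = 1 → (a * b) ^ j ∈ 𝐂[b] := fun j e =>
    mem_cent1_comm.1 (mem_cent1_iff_conj.2 ((e2 j).trans (inv_eq (by rw [← pow_add, e]))))
  have e4 := e3 r (by rw [← two_mul, ← hr, pow_orderOf_eq_one])
  obtain ⟨s, rfl | rfl⟩ := Nat.even_or_odd' r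
  · have e5 : (a * b) ^ s * b * ((a * b) ^ s * b) = 1 := by
      calc _ = (a * b) ^ s * (b * (a * b) ^ s * b⁻¹) * (b * b) := by group
        _ = 1 := by rw [e2, hb]; group
    have e6 := ab_iff.1 (h2 _ (ZL.isPGroup_dihedral (a := (a * b) ^ s * b) (b := b)
      ((pow_two _).trans e5) ((pow_two _).trans hb) (by
        rw [mul_assoc, hb, mul_one]
        exact (isPiNum_singleton_pow Nat.prime_two 2).of_dvd (orderOf_dvd_of_pow_eq_one (by
          rw [← pow_mul, ← pow_orderOf_eq_one (a * b), hr]; congr 1; ring))))) _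
      (subset_closure (.inl rfl)) b (subset_closure (.inr rfl))
    have e7 : (a * b) ^ (s + s) = 1 := by
      rw [mul_assoc, hb, mul_one, ← mul_assoc] at e6
      rw [pow_add, ← eq_inv_iff_mul_eq_one, ← e2, inv_eq hb, ← e6]
    exact absurd e7 (pow_ne_one_of_lt_orderOf (by omega) (by omega))
  · refine ⟨_, ((a * b) ^ s)⁻¹ * b, ?_, e4, ?_⟩
    · have := mul_mem (mem_cent1.2 (Commute.self_pow (a * b) (2 * s + 1)).eq)
        (inv_mem (mem_cent1_comm.1 e4))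
      rw [mul_inv_cancel_right] at this
      exact mem_cent1_comm.1 this
    · calc _ = b * (a * b) ^ s * b⁻¹ * b * (a * b) * (a * b) ^ s := by
            rw [two_mul, add_right_comm, pow_add, pow_succ]; group
        _ = _ := by rw [e2, mul_inv_rev, inv_eq hb]; group

namespace St

variable (h : St S A)
include h

theorem mem_of_conj (h1 : 𝐍(S) ≤ M) (ha : a ∈ A) (h2 : 𝐂[a] ≤ M) (hg : g * a * g⁻¹ ∈ M) : g ∈ M := by
  obtain ⟨m, hm, h3⟩ := (h.syl.mono ((le_norm_self S).trans h1) le_top).exists_conj_le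
    (zpowers_le.2 hg) (abelem_isPGroup (abelem_zpowers ((pow_two _).trans (conj_sq (h.sq ha) g))))
  have h4 : m * g * a * (m * g)⁻¹ ∈ S := by
    convert h3 (conj_mem_conj (mem_zpowers _)) using 1; group
  obtain ⟨n, hn, e⟩ := h.fusion' ha h4
  have h5 : n⁻¹ * (m * g) ∈ M := h2 (mem_cent1_iff_conj.2 (by
    calc _ = n⁻¹ * (m * g * a * (m * g)⁻¹) * n := by group
      _ = a := by rw [← e]; group))
  exact (mul_mem_cancel_left hm).1 ((mul_mem_cancel_left (inv_mem (h1 hn))).1 h5)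

theorem exists_conj (h1 : S ≤ M) (hX : X ≤ M) (h2 : IsElementaryAbelian 2 X) :
    ∃ m ∈ M, m •ᶜ X ≤ A := by
  obtain ⟨m, hm, h3⟩ := (h.syl.mono h1 le_top).exists_conj_le hX (abelem_isPGroup h2)
  exact ⟨m, hm, fun x hx => (h.mem x).2 ⟨h3 hx, (pow_two x).symm.trans ((abelem_conj.2 h2).2 x hx)⟩⟩

theorem se (h0 : M ≠ ⊤) (h1 : 𝐍(S) ≤ M) (h2 : ∀ a ∈ A, a ≠ 1 → 𝐂[a] ≤ M) : ZL.SE M := by
  have hS := (le_norm_self S).trans h1
  refine ⟨h0, (dvd_card_of_isPGroup (h.two le_rfl) fun e => ?_).trans (card_dvd (h.le.trans hS)),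
    fun g hg e => hg ?_⟩
  · simpa [e] using h.big
  obtain ⟨t, ht, t2⟩ := cauchy Nat.prime_two e
  obtain ⟨m, hm, h3⟩ := h.exists_conj hS (zpowers_le.2 (mem_conj.1 ht.2))
    (abelem_zpowers (by rw [← orderOf_conj' g t] at t2; exact t2 ▸ pow_orderOf_eq_one _))
  have h4 := h3 (conj_mem_conj (mem_zpowers _))
  exact (mul_mem_cancel_right (inv_mem hm)).1 (h.mem_of_conj h1 h4 (h2 _ h4
    (by
      rw [Ne, ← orderOf_eq_one_iff, orderOf_conj, orderOf_conj', t2]; decide))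
    (by rw [show g * m⁻¹ * (m * (g⁻¹ * t * g) * m⁻¹) * (g * m⁻¹)⁻¹ = t by group]; exact ht.1))

theorem pf (hU : U ≤ A) (hD : D ≤ A) (hs : A ≤ U ⊔ D) (hi : U ⊓ D = ⊥) (nU : 𝐍(S) ≤ 𝐍(U))
    (nD : 𝐍(S) ≤ 𝐍(D)) (U0 : U ≠ ⊥) (D2 : 2 < ♯D) (h0 : M ≠ ⊤) (h1 : 𝐍(S) ≤ M)
    (h2 : ∀ d ∈ D, d ≠ 1 → 𝐂[d] ≤ M) : False := by
  have hS := (le_norm_self S).trans h1
  have k1 : ∀ u ∈ U, ∀ d ∈ D, u ≠ 1 → d ≠ 1 → 𝐂[d * u] ≤ M := fun u hu d hd u1 d1 => by
    have hz := mul_mem (hD hd) (hU hu)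
    have z1 : d * u ≠ 1 := fun e => u1 (mem_bot.1 (hi ▸ show u ∈ U ⊓ D from
      ⟨hu, eq_inv_of_mul_eq_one_right e ▸ D.inv_mem hd⟩))
    obtain ⟨𝓛, F⟩ := h.fam _ (h.cent1_ne z1) (h.le_cent1 hz)
    refine F.le h (h.le_cent1 hz) (gen1 (h.abelem hD) D2 (odd_O _) ((hD.trans h.le).trans (h.normO hz))
      fun c hc c1 => inf_le_right.trans (h2 c hc c1)) (inf_le_right.trans h1) fun L hL =>
        (le_cent1_iff.2 ?_).trans (h2 d hd d1)
    obtain ⟨k, -, l⟩ := (F.cp L hL).toPC.lin h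
    rcases l.dich h hU (nU l.kn) with e | e
    · exact (l.le_of_inf h hD (nD l.kn) (eq_bot_iff.2 (hi ▸ le_inf (inf_le_right.trans e)
        inf_le_left)) hd).2
    · exact (𝐂(L).mul_mem_cancel_right (e hu).2).1 (le_cent1_iff.1 (F.cp L hL).le)
  obtain ⟨u, hu, u1⟩ := exists_mem_ne_one U0
  obtain ⟨d, hd, d1, -⟩ := exists_two (h.abelem hD) D2 (one_mul 1)
  have k2 : ∀ X ≤ A, 𝐍(S) ≤ 𝐍(X) → ∀ x ∈ X, ∀ g, g * x * g⁻¹ ∈ A → g * x * g⁻¹ ∈ X :=
    fun X h3 h4 x hx g hg => by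
      obtain ⟨n, hn, e⟩ := h.fusion' (h3 hx) (h.le hg)
      exact e ▸ conj_mem_of_norm (h4 hn) hx
  obtain ⟨g, hg⟩ : ∃ g, g * u * g⁻¹ ∉ M := by
    by_contra! e
    refine (h.norm_ne (ne_bot_of_le_ne_bot (by simpa using u1) (le_ncl (zpowers u) ⊤))
      (fun e' => h0 (eq_top_iff.2 (e'.ge.trans ((closure_le M).2 ?_))))) (eq_top_iff.2 (norm_ncl _ _))
    rintro _ ⟨x, -, w, hw, rfl⟩
    rcases (mem_zp (h.sq (hU hu))).1 hw with rfl | rfl
    · simpa using one_mem M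
    · exact e x
  have u2 := conj_sq (h.sq (hU hu)) g
  obtain ⟨z, r, z1, z2, e⟩ := exists_central h.ab2 u2 (h.sq (hD hd)) fun e => by
    obtain ⟨r, e⟩ := isConj_iff.1 e
    have h3 : g⁻¹ * r * d * (g⁻¹ * r)⁻¹ = u := by
      calc _ = g⁻¹ * (r * d * r⁻¹) * g := by group
        _ = u := by rw [e]; group
    exact u1 (mem_bot.1 (hi ▸ show u ∈ U ⊓ D from ⟨hu, h3 ▸ k2 D hD nD d hd _ (h3 ▸ hU hu)⟩))
  have h3 : d * z ∈ 𝐂[d] := mul_mem (mem_cent1_self d) z2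
  obtain ⟨m, hm, h4⟩ := h.exists_conj hS (sup_le (zpowers_le.2 (hS (h.le (hD hd))))
    (zpowers_le.2 (h2 d hd d1 h3))) (abelem_sup (abelem_zpowers ((pow_two _).trans (h.sq (hD hd))))
      (abelem_zpowers ((pow_two _).trans (e ▸ conj_sq u2 r)))
      (zpowers_le.2 ((cent_zpowers _).ge (mem_cent1_comm.1 h3))))
  have h5 := k2 D hD nD d hd m (h4 (conj_mem_conj (mem_sup_left (mem_zpowers _))))
  have h6 := k2 U hU nU u hu (m * r * g) (by
    convert h4 (conj_mem_conj (mem_sup_right (mem_zpowers _))) using 1; rw [e]; group)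
  have h7 := k1 _ h6 _ h5 (by rwa [Ne, conj_eq_one_iff]) (by simpa using d1)
  rw [show m * d * m⁻¹ * (m * r * g * u * (m * r * g)⁻¹) = m * z * m⁻¹ by
    calc _ = m * (d * (r * (g * u * g⁻¹) * r⁻¹)) * m⁻¹ := by group
      _ = _ := by rw [← e, ← mul_assoc d, h.sq (hD hd), one_mul], cent1_conj] at h7
  exact hg ((mul_mem_cancel_left hm).1 ((mul_mem_cancel_right (inv_mem hm)).1
    (h7 (conj_mem_conj (mem_cent1_comm.1 z1)))))

end St

/-- the two-factor case -/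
structure TF (S A U D : Subgroup G) : Prop where
  p : Mx S A U D
  q : Mx S A D U

namespace TF

theorem symm (t : TF S A U D) : TF S A D U := ⟨t.q, t.p⟩

variable (h : St S A) (t : TF S A U D)
include h t

theorem cases (p : Mx S A W C) : W = U ∧ C = D ∨ W = D ∧ C = U :=
  (p.tri h t.p).imp_right fun e => (p.tri h t.q).resolve_right fun e' => by
    obtain ⟨k, l⟩ := p.lin h
    exact l.ne_bot h (eq_bot_iff.2 (t.p.inf h ▸ le_inf e'.1 e.1))

theorem norm : 𝐍(S) ≤ 𝐍(U) := fun _ hn => conj_eq_self_iff.1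
  ((t.cases h (t.p.conj h hn)).elim (·.1) fun e =>
    (t.p.not_le h (h.noswap hn (t.p.wle h) e.1 e.2).le).elim)

theorem pf (h0 : M ≠ ⊤) (h1 : 𝐍(S) ≤ M) (h2 : ∀ d ∈ D, d ≠ 1 → 𝐂[d] ≤ M) : False :=
  h.pf (t.p.wle h) (t.p.cle h) (t.p.sup h) (t.p.inf h) (t.norm h) (t.symm.norm h) t.q.1.1
    (t.p.rank h) h0 h1 h2

theorem th_normal (ha : a ∈ A) (h1 : a ∉ U) (h2 : a ∉ D) : 𝐂[a] ≤ 𝐍(th S A (O 𝐂[a])) := by
  have k : ∀ U D, TF S A U D → a ∉ D → (zpowers a ⊔ D) ⊓ U ≠ ⊥ := fun U D t h2 e => by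
    obtain ⟨k, l⟩ := t.p.lin h
    obtain ⟨u, hu, d, hd, rfl⟩ := l.dec h ha
    have : u ∈ (zpowers (u * d) ⊔ D) ⊓ U :=
      ⟨(mul_mem_cancel_right (mem_sup_right hd)).1 (mem_sup_left (mem_zpowers _)), hu⟩
    rw [e, mem_bot] at this
    exact h2 (by rwa [this, one_mul])
  refine h.th_normal ha (by rintro rfl; exact h1 (one_mem _)) fun W C W' C' p q => ?_
  rcases t.cases h p with ⟨-, rfl⟩ | ⟨-, rfl⟩ <;> rcases t.cases h q with ⟨-, rfl⟩ | ⟨-, rfl⟩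
  · exact ne_bot_of_le_ne_bot p.1.1 (le_inf le_sup_right le_rfl)
  · exact k _ _ t h2
  · exact k _ _ t.symm h1
  · exact ne_bot_of_le_ne_bot p.1.1 (le_inf le_sup_right le_rfl)

theorem le_th (hd : d ∈ D) (h1 : X ≤ O 𝐂[d]) (hn : A ≤ 𝐍(X)) (h2 : X ≤ thC U (O 𝐂[d])) :
    X ≤ th S A (O 𝐂[d]) :=
  h.le_th h1 (odd_O _) hn fun W C p => by
    rcases t.cases h p with ⟨-, rfl⟩ | ⟨-, rfl⟩
    · exact (inf_le_inf_right _ h1).trans (O_inf_le (cent_le_cent1 hd))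
    · exact (inf_le_inf_right _ h2).trans (h.thC_inf p (odd_O _) (h.normO (t.p.cle h hd)))

variable (ho : Odd ♯E) (hn : 𝐍(S) ≤ 𝐍(E)) (hE : ∀ a ∈ A, a ≠ 1 → E ⊓ 𝐂[a] = th S A (O 𝐂[a]))
include ho hn hE

theorem cent_le {u : G} (hu : u ∈ U) (u1 : u ≠ 1) : 𝐂(D) ⊓ 𝐂[u] ≤ 𝐍(E) := by
  have hU := t.p.wle h
  have hD := t.p.cle h
  have hA : A ≤ 𝐍(E) := h.le.trans ((le_norm_self S).trans hn)
  obtain ⟨d, hd, d1⟩ := exists_mem_ne_one t.p.1.1
  have h1 : zpowers u ≤ A := zpowers_le.2 (hU hu)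
  have h2 : S ≤ 𝐍(O 𝐂[d] ⊓ 𝐂(D)) := le_norm_inf (h.normO (hD hd)) (le_norm_of_le (h.le_cent hD))
  have h3 : E ⊓ 𝐂(D) = ⁅O 𝐂[d] ⊓ 𝐂(D), zpowers u⁆ ⊔ O 𝐂[d] ⊓ 𝐂(D) ⊓ O 𝐂[u] := by
    have h4 : E ⊓ 𝐂(D) ≤ O 𝐂[d] ⊓ 𝐂(D) := le_inf ((inf_le_inf_left _ (cent_le_cent1 hd)).trans
      ((hE d (hD hd) d1).le.trans th_le)) inf_le_right
    have h5 := commutator_le_left' ((h1.trans h.le).trans h2)
    refine le_antisymm (le_of_cent_prod (odd_of_le ho inf_le_left) (h.two h1) (h1.trans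
      (le_norm_inf hA (le_norm_of_le (h.le.trans (h.le_cent hD)))))
      ((commutator_mono h4 le_rfl).trans le_sup_left) (le_trans (le_inf (inf_le_left.trans h4) ?_)
        le_sup_right)) (le_inf (le_trans (sup_le ?_ ?_) ((hE d (hD hd) d1).ge.trans inf_le_left))
        (sup_le (h5.trans inf_le_right) (inf_le_left.trans inf_le_right)))
    · rw [cent_zpowers]
      exact (inf_le_inf_right _ inf_le_left).trans ((hE u (hU hu) u1).le.trans th_le)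
    · exact t.le_th h hd (h5.trans inf_le_left) (h.le.trans (le_norm_commutator h2 (h.le_norm h1)))
        ((commutator_mono inf_le_left (zpowers_le.2 hu)).trans le_sup_left)
    · have h6 := h.le.trans (le_norm_inf h2 (h.normO (hU hu)))
      exact t.le_th h hd (inf_le_left.trans inf_le_left) h6 (le_thC (h.two hU)
        (inf_le_left.trans inf_le_left) (odd_O _) (hU.trans h6)
        ((inf_le_inf_right _ inf_le_right).trans (O_inf_le (cent_le_cent1 hu))))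
  have h4 : 𝐂(D) ⊓ 𝐂[u] ≤ 𝐍(E ⊓ 𝐂(D)) := by
    have h5 : 𝐂(D) ⊓ 𝐂[u] ≤ 𝐍(O 𝐂[d] ⊓ 𝐂(D)) := inf_le_left.trans
      (le_norm_inf ((cent_le_cent1 hd).trans (O_norm _)) (le_norm_self _))
    rw [h3]
    exact le_norm_sup (le_norm_commutator h5 (le_norm_of_le_cent (cent_zpowers u ▸ inf_le_right)))
      (le_norm_inf h5 (inf_le_right.trans (O_norm _)))
  have h5 : D ⊔ zpowers u ≤ A := sup_le hD h1
  refine fun g hg => mem_norm_of_conj_le (conj_le_iff_le_inv_conj.2 (genH (h.abelem h5)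
    (ne_bot_of_le_ne_bot t.p.1.1 le_sup_left) ho (h5.trans hA) fun F hF h6 => ?_))
  rw [← conj_le_iff_le_inv_conj]
  by_cases e : ∃ z ∈ F, z ∉ U ∧ z ∉ D
  · obtain ⟨z, hz, h7, h8⟩ := e
    have h9 := hE z (h5 (hF hz)) (by rintro rfl; exact h7 (one_mem _))
    refine (conj_mono g ((inf_le_inf_left _ (cent_le_cent1 hz)).trans h9.le)).trans ?_
    rw [conj_eq_of_mem_norm (t.th_normal h (h5 (hF hz)) h7 h8
      (cent_le_cent1 (hF hz) (by rwa [cent_sup, cent_zpowers])))]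
    exact h9.ge.trans inf_le_left
  have h7 := card_mul_relIndex hF
  rw [h6, card_sup_of_inf_eq_bot (.inl ((hD.trans h.le).trans (h.le_norm h1))) (eq_bot_iff.2
    (t.q.inf h ▸ inf_le_inf_left _ (zpowers_le.2 hu))), Nat.card_zpowers,
    orderOf_eq_two (h.sq (hU hu)) u1] at h7
  have h8 : F ≤ D := fun x hx => by_contra fun h8 => by
    have h9 : ∀ y ∈ F, y ∈ U → y ∈ zpowers u := fun y hy h9 => by
      obtain ⟨c, hc, v, hv, rfl⟩ := (mem_sup_norm_right ((hD.trans h.le).trans (h.le_norm h1))).1 (hF hy)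
      have : c ∈ U ⊓ D := ⟨(mul_mem_cancel_right (zpowers_le.2 hu hv)).1 h9, hc⟩
      rw [t.p.inf h, mem_bot] at this
      rwa [this, one_mul]
    push Not at e
    have h10 : x ∈ U := by_contra fun e' => h8 (e x hx e')
    have h11 : F ≤ zpowers u := fun y hy => h9 y hy (by_contra fun e' => h8
      ((mul_mem_cancel_right (e y hy e')).1 (e _ (mul_mem hx hy) fun e'' =>
        e' ((mul_mem_cancel_left h10).1 e''))))
    have h12 := card_le h11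
    rw [Nat.card_zpowers, orderOf_eq_two (h.sq (hU hu)) u1] at h12
    have := t.p.rank h
    omega
  rw [eq_of_le_of_card_le h8 (by omega), conj_eq_of_mem_norm (h4 hg)]
  exact inf_le_left

theorem O_le (hd : d ∈ D) (d1 : d ≠ 1) : O 𝐂[d] ≤ 𝐍(E) := by
  have hU := t.p.wle h
  have h1 := h.normO (t.p.cle h hd)
  exact le_of_cent_prod (odd_O _) (h.two hU) ((hU.trans h.le).trans h1) (le_norm_of_le
    ((t.le_th h hd (commutator_le_left' ((hU.trans h.le).trans h1)) (h.le.trans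
      (le_norm_commutator h1 (h.le_norm hU))) le_sup_left).trans
      ((hE d (t.p.cle h hd) d1).ge.trans inf_le_left)))
    ((le_inf inf_le_right (inf_le_left.trans (W4.O_le _))).trans (t.symm.cent_le h ho hn hE hd d1))

theorem not_le (h0 : E ≠ ⊥) (h1 : 𝐂(D) ≤ 𝐍(E)) : False := by
  refine t.pf h (h.norm_ne h0 fun e => ?_) hn fun d hd d1 => ?_
  · exact Nat.not_even_iff_odd.2 ho (even_iff_two_dvd.2 ((dvd_card_of_isPGroup (h.two (t.p.cle h))
      t.p.1.1).trans (card_dvd (e ▸ le_top))))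
  have hA := t.p.cle h hd
  obtain ⟨𝓛, F⟩ := h.fam _ (h.cent1_ne d1) (h.le_cent1 hA)
  refine F.le h (h.le_cent1 hA) (t.O_le h ho hn hE hd d1) (inf_le_right.trans hn) fun L hL => ?_
  obtain ⟨W, C, p, -, h2⟩ := F.exists_mx (zpowers_le.2 hA) (by simpa using d1) (cent_zpowers d).ge hL
  have h3 := le_cent_symm (h2.trans inf_le_right)
  rcases t.cases h p with ⟨-, rfl⟩ | ⟨-, rfl⟩
  · exact h3.trans h1
  · exact (le_inf h3 (F.cp L hL).le).trans (t.symm.cent_le h ho hn hE hd d1)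

theorem eq_bot : E = ⊥ := by_contra fun h0 => by
  have hU := t.p.wle h
  have hD := t.p.cle h
  have hS := h.le_cent hU
  obtain ⟨𝓛, F⟩ := h.fam _ (h.cent_ne t.q.1.1) hS
  have h1 : O 𝐂(U) ≤ 𝐍(E) := gen1 (h.abelem hD) (t.p.rank h) (odd_O _)
    ((hD.trans h.le).trans (hS.trans (O_norm _))) fun d hd d1 =>
      (inf_le_inf_right _ (W4.O_le _)).trans (t.symm.cent_le h ho hn hE hd d1)
  have h2 : ∀ L ∈ 𝓛, A ⊓ L ≤ D := fun L hL => by
    obtain ⟨W, C, p, h2, -⟩ := F.exists_mx hU t.q.1.1 le_rfl hL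
    obtain ⟨k, -, l⟩ := (F.cp L hL).toPC.lin h
    rcases t.cases h p with ⟨rfl, -⟩ | ⟨rfl, -⟩
    · exact (l.not_le h (h2.trans (le_inf hU (le_cent_symm (F.cp L hL).le)))).elim
    · exact h2
  obtain ⟨L, hL, h3⟩ : ∃ L ∈ 𝓛, ¬ L ≤ 𝐍(E) := by
    by_contra! e
    exact t.symm.not_le h ho hn hE h0 (F.le h hS h1 (inf_le_right.trans hn) e)
  have h4 := ((F.cp L hL).dich _ h1 (inf_le_right.trans hn) fun w hw w1 =>
    t.symm.cent_le h ho hn hE (h2 L hL hw) w1).resolve_left h3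
  have h5 : ∀ d ∈ D, d ≠ 1 → E ⊓ 𝐂[d] = O 𝐂[d] := fun d hd d1 => by
    have h5 := h.normO (hD hd)
    have h6 : S ≤ 𝐍(O 𝐂[d] ⊓ 𝐂(U)) := le_norm_inf h5 (le_norm_of_le hS)
    have h7 : Odd ♯(O 𝐂[d] ⊓ 𝐂(U)) := odd_of_le (odd_O _) inf_le_left
    refine (hE d (hD hd) d1).trans (le_antisymm th_le (t.le_th h hd le_rfl (h.le.trans h5)
      (le_thC (h.two hU) le_rfl (odd_O _) ((hU.trans h.le).trans h5)
        (F.le_O _ inf_le_right h7 h6 fun K hK => ?_))))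
    by_cases e : K = L
    · exact e ▸ h4 _ inf_le_right h7 h6
    obtain ⟨k, -, l⟩ := (F.cp K hK).toPC.lin h
    obtain ⟨w, hw, w1⟩ := exists_mem_ne_one (l.ne_bot h)
    exact (h3 ((le_inf (F.cp L hL).le (le_cent1_iff.2 (F.comm K hK L hL e hw))).trans
      (t.symm.cent_le h ho hn hE (h2 K hK hw) w1))).elim
  refine t.not_le h ho hn hE h0 fun g hg => mem_norm_of_conj_le (conj_le_iff_le_inv_conj.2
    (gen1 (h.abelem hD) (t.p.rank h) ho ((hD.trans h.le).trans ((le_norm_self S).trans hn))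
      fun d hd d1 => ?_))
  rw [← conj_le_iff_le_inv_conj, h5 d hd d1, conj_eq_of_mem_norm (O_norm _ (cent_le_cent1 hd hg))]
  exact (h5 d hd d1).ge.trans inf_le_left

end TF

namespace St

variable (h : St S A)
include h

theorem tf (p : Mx S A W C) (q : Mx S A W' C') (h0 : C ⊓ C' = ⊥) : TF S A W C := by
  obtain ⟨h1, h2⟩ := (p.tri h q).resolve_left fun e => p.1.1 (by rw [← h0, ← e.2, inf_idem])
  have k : ∀ W C W' C', Mx S A W C → Mx S A W' C' → W' ≤ C → C ⊓ C' = ⊥ → W' = C :=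
    fun W C W' C' p q h2 h0 => le_antisymm h2 fun c hc => by
      obtain ⟨k, l⟩ := q.lin h
      obtain ⟨w, hw, d, hd, rfl⟩ := l.dec h (p.cle h hc)
      have : d ∈ C ⊓ C' := ⟨(mul_mem_cancel_left (h2 hw)).1 hc, hd⟩
      rw [h0, mem_bot] at this
      rwa [this, mul_one]
  exact ⟨p, k _ _ _ _ p q h2 h0 ▸ k _ _ _ _ q p h1 (inf_comm C C' ▸ h0) ▸ q⟩

theorem lam_conj (p : Mx S A W C) (hn : n ∈ 𝐍(S)) : n •ᶜ lam W C ≤ lam (n •ᶜ W) (n •ᶜ C) := by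
  have := ncl_conj (A := W) n W 𝐂(C)
  rwa [inf_idem, inf_idem, ← cent_conj] at this

theorem lam_le (p : Mx S A W C) : lam W C ≤ T2 𝐂(C) :=
  ncl_le (le_T2 ((p.wle h).trans (h.le.trans (h.le_cent (p.cle h)))) (h.two (p.wle h)))
    (le_norm_self _)

theorem le_lam (l : PC S A L) (h1 : A ⊓ L ≤ W) (h2 : C ≤ A ⊓ 𝐂(L)) : L ≤ lam W C :=
  l.gen _ (h1.trans (le_ncl _ _)) ((l.le_T2 h (le_cent_symm (h2.trans inf_le_right))).trans
    (norm_ncl _ _))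

variable (hE : ∀ a ∈ A, a ≠ 1 → th S A (O 𝐂[a]) = ⊥)
include hE

theorem comm_le (p : Mx S A W C) (ha : a ∈ A) (a1 : a ≠ 1) : ⁅O 𝐂[a], W⁆ ≤ 𝐂(C) := by
  have h1 := h.normO ha
  have h2 := le_norm_commutator h1 (h.le_norm (p.wle h))
  have h3 := commutator_le_left' (((p.wle h).trans h.le).trans h1)
  rw [← OO.commutator_eq_bot_iff, eq_bot_iff, ← hE a ha a1]
  refine le_inf ((commutator_le_left' (((p.cle h).trans h.le).trans h2)).trans h3)
    (le_iInf₂ fun C' ⟨W', q⟩ => le_trans ?_ le_sup_left)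
  rcases p.tri h q with e | e
  · exact commutator_mono h3 e.2.le
  · exact (commutator_le_left' (((p.cle h).trans h.le).trans h2)).trans (commutator_mono le_rfl e.1)

theorem norm_lam (p : Mx S A W C) (hc : c ∈ C) (c1 : c ≠ 1) : T2 𝐂[c] ≤ 𝐍(lam W C) ∧
    ∀ Y ≤ 𝐂[c], Odd ♯Y → S ≤ 𝐍(Y) → Y ≤ 𝐍(lam W C) := by
  have hA := p.cle h hc
  have hS := h.le_cent1 hA
  obtain ⟨𝓛, F⟩ := h.fam _ (h.cent1_ne c1) hS
  obtain ⟨L, hL, rfl, e⟩ := p.pu h hS F (zpowers_le.2 hA) (by simpa using c1) (cent_zpowers c).ge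
    (cent_le_cent1 hc)
  have l := F.cp L hL
  have h1 : T2 𝐂(C) ≤ 𝐍(L ⊔ O 𝐂[c]) := (T2_mono (cent_le_cent1 hc)).trans l.T2_le
  have h2 := h.comm_le hE p hA c1
  have h3 := commG (odd_O _) (h.two (p.wle h)) (((p.wle h).trans h.le).trans (h.normO hA))
  have h4 : ⁅O 𝐂[c], A ⊓ L⁆ ≤ lam (A ⊓ L) C := h3 ▸ commutator_le_of_norm ((h3 ▸
    commutator_le_of_norm (h2.trans (le_norm_T2 (le_norm_self _)))
      ((le_ncl _ _).trans (h.lam_le p))).trans (norm_ncl _ _)) (le_ncl _ _)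
  have h5 : O 𝐂[c] ≤ 𝐍(lam (A ⊓ L) C) := fun y hy => mem_norm_of_conj_le
    (conj_le_iff_le_inv_conj.2 ((closure_le _).2 (by
      rintro _ ⟨x, hx, w, hw, rfl⟩
      rw [SetLike.mem_coe, mem_conj, inv_inv, show y * (x * w * x⁻¹) * y⁻¹ =
        x * (⁅x⁻¹ * y * x, w⁆ * w) * x⁻¹ by simp only [commutatorElement_def]; group]
      exact conj_mem_of_norm (norm_ncl _ _ hx) (mul_mem (h4 (commutator_mem_commutator
        (conj_mem_of_norm' (O_norm _ (cent_le_cent1 hc (T2_le _ hx))) hy) hw)) (le_ncl _ _ hw)))))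
  have h6 : lam (A ⊓ L) C = T2 (L ⊔ O 𝐂[c]) := le_antisymm
    (ncl_le (le_T2 (inf_le_right.trans le_sup_left) (h.two inf_le_left)) (le_norm_T2 h1))
    ((T2_mono (sup_le_sup_right (h.le_lam l.toPC le_rfl e.ge) _)).trans (T2_le_of_odd (odd_O _) h5))
  rw [h6]
  exact ⟨le_norm_T2 l.T2_le, fun Y h7 h8 h9 => le_norm_T2 (l.normO Y h7 h8 h9)⟩

theorem norm_lam' (p : Mx S A W C) (ho : Odd ♯Y) (hn : S ≤ 𝐍(Y)) : Y ≤ 𝐍(lam W C) :=
  gen1 (h.abelem (p.cle h)) (p.rank h) ho (((p.cle h).trans h.le).trans hn) fun _ hc c1 =>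
    (h.norm_lam hE p hc c1).2 _ inf_le_right (odd_of_le ho inf_le_left)
      (le_norm_inf hn (le_norm_of_le (h.le_cent1 (p.cle h hc))))

omit hE in
theorem lam_ne (p : Mx S A W C) : 𝐍(lam W C) ≠ ⊤ := by
  obtain ⟨k, l⟩ := p.lin h
  exact h.norm_ne (ne_bot_of_le_ne_bot (l.ne_bot h) (le_ncl _ _)) fun e =>
    h.cent_ne p.1.1 (eq_top_iff.2 (e.ge.trans ((h.lam_le p).trans (T2_le _))))

theorem not_tf (t : TF S A U D) : False := by
  have h1 : 𝐍(S) ≤ 𝐍(lam U D) := fun n hn => mem_norm_of_conj_le ((h.lam_conj t.p hn).trans (by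
    rw [conj_eq_of_mem_norm (t.norm h hn), conj_eq_of_mem_norm (t.symm.norm h hn)]))
  exact t.pf h (h.lam_ne t.p) h1 fun d hd d1 => (le_T2_sup h.syl (h.le_cent1 (t.p.cle h hd))).trans
    (sup_le (h.norm_lam hE t.p hd d1).1 (inf_le_right.trans h1))

theorem se_of_bot (h1 : ∀ W C W' C', Mx S A W C → Mx S A W' C' → C ⊓ C' ≠ ⊥) :
    ∃ M : Subgroup G, ZL.SE M := by
  by_cases h0 : ∃ W C, Mx S A W C
  · obtain ⟨W, C, p⟩ := h0
    set E := sSup {X | ∃ W C, Mx S A W C ∧ X = lam W C} with hE'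
    have h2 : ∀ W C, Mx S A W C → lam W C ≤ E := fun W C p => le_sSup ⟨W, C, p, rfl⟩
    have h3 : 𝐍(S) ≤ 𝐍(E) := fun n hn => mem_norm_of_conj_le (conj_le_iff_le_inv_conj.2 (sSup_le (by
      rintro _ ⟨W, C, p, rfl⟩
      exact conj_le_iff_le_inv_conj.1 ((h.lam_conj p hn).trans (h2 _ _ (p.conj h hn))))))
    refine ⟨𝐍(E), h.se (h.norm_ne ?_ fun e => h.lam_ne p (eq_top_iff.2 (e.ge.trans (sSup_le ?_)))) h3
      fun a ha a1 => ?_⟩
    · obtain ⟨k, l⟩ := p.lin h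
      exact ne_bot_of_le_ne_bot (l.ne_bot h) ((le_ncl _ _).trans (h2 W C p))
    · rintro _ ⟨W', C', q, rfl⟩
      obtain ⟨c, hc, c1⟩ := exists_mem_ne_one (h1 _ _ _ _ p q)
      exact (h.lam_le q).trans ((T2_mono (cent_le_cent1 hc.2)).trans (h.norm_lam hE p hc.1 c1).1)
    obtain ⟨𝓛, F⟩ := h.fam _ (h.cent1_ne a1) (h.le_cent1 ha)
    refine F.le h (h.le_cent1 ha) (le_norm_sSup ?_) (inf_le_right.trans h3) fun L hL => ?_
    · rintro y hy _ ⟨W', C', q, rfl⟩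
      exact ⟨W', C', q, conj_eq_of_mem_norm (h.norm_lam' hE q (odd_O _) (h.normO ha) hy)⟩
    obtain ⟨W', C', q, h4, h5⟩ := F.exists_mx (zpowers_le.2 ha) (by simpa using a1)
      (cent_zpowers a).ge hL
    exact le_norm_of_le ((h.le_lam (F.cp L hL).toPC h4 h5).trans (h2 _ _ q))
  have hA : A ≠ ⊥ := fun e => by simpa [e] using h.big
  refine ⟨𝐍(S), h.se (h.norm_ne (ne_bot_of_le_ne_bot hA h.le) fun e => h.nab ⟨⟨fun x y =>
    ab_iff.1 h.ab x (e.ge (mem_top x)) y (e.ge (mem_top y))⟩⟩) le_rfl fun a ha a1 => ?_⟩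
  obtain ⟨𝓛, F⟩ := h.fam _ (h.cent1_ne a1) (h.le_cent1 ha)
  refine F.le h (h.le_cent1 ha) ((h.le_th le_rfl (odd_O _) (h.le.trans (h.normO ha))
    fun W C p => (h0 ⟨W, C, p⟩).elim).trans ((hE a ha a1).le.trans bot_le)) inf_le_right
    fun L hL => ?_
  obtain ⟨W, C, p, -⟩ := F.exists_mx (zpowers_le.2 ha) (by simpa using a1) (cent_zpowers a).ge hL
  exact (h0 ⟨W, C, p⟩).elim

omit hE in
theorem exists_se : ∃ M : Subgroup G, ZL.SE M := by
  obtain ⟨E, ho, hn, hE⟩ := h.exists_compl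
  have h1 : ∀ W C W' C', Mx S A W C → Mx S A W' C' → C ⊓ C' ≠ ⊥ := fun W C W' C' p q e =>
    h.not_tf (fun a ha a1 => by rw [← hE a ha a1, (h.tf p q e).eq_bot h ho hn hE, bot_inf_eq])
      (h.tf p q e)
  by_cases h0 : E = ⊥
  · exact h.se_of_bot (fun a ha a1 => by rw [← hE a ha a1, h0, bot_inf_eq]) h1
  have hA : A ≠ ⊥ := fun e => by simpa [e] using h.big
  have h2 : ∀ B ≤ A, 2 < ♯B → 𝐂(B) ≤ 𝐍(E) := fun B hB h2 g hg =>
    mem_norm_of_conj_le (conj_le_iff_le_inv_conj.2 (gen1 (h.abelem hB) h2 ho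
      ((hB.trans h.le).trans ((le_norm_self S).trans hn)) fun b hb b1 => by
        rw [← conj_le_iff_le_inv_conj, hE b (hB hb) b1, conj_eq_of_mem_norm (h.th_normal (hB hb) b1
          (fun W C W' C' p q => ne_bot_of_le_ne_bot (h1 _ _ _ _ p q) (inf_le_inf_right _ le_sup_right))
          (cent_le_cent1 hb hg)), ← hE b (hB hb) b1]
        exact inf_le_left))
  refine ⟨𝐍(E), h.se (h.norm_ne h0 fun e => Nat.not_even_iff_odd.2 ho (even_iff_two_dvd.2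
    ((dvd_card_of_isPGroup (h.two le_rfl) hA).trans (card_dvd (e ▸ le_top))))) hn fun a ha a1 => ?_⟩
  obtain ⟨𝓛, F⟩ := h.fam _ (h.cent1_ne a1) (h.le_cent1 ha)
  refine F.le h (h.le_cent1 ha) (genH (h.abelem le_rfl) hA (odd_O _) (h.le.trans (h.normO ha))
    fun B hB h3 => inf_le_right.trans (h2 B hB ?_)) (inf_le_right.trans hn) fun L hL => ?_
  · have := card_mul_relIndex hB
    have := h.big
    rw [h3] at *
    omega
  obtain ⟨W, C, p, -, h4⟩ := F.exists_mx (zpowers_le.2 ha) (by simpa using a1) (cent_zpowers a).ge hL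
  exact (le_cent_symm (h4.trans inf_le_right)).trans (h2 C (p.cle h) (p.rank h))

end St

/-- the case of rank at least 4 of Walter's theorem -/
theorem w4 (ks : KS.{u}) : R1.W4.{u} := by
  intro G _ _ B hs hn h2 hk hB h16
  obtain ⟨S, hS, h1⟩ := exists_syl_ge (le_top : B ≤ ⊤) (abelem_isPGroup hB)
  have h3 := Ohm_abelem 2 (h2 S hS.isPGroup)
  have h4 : ∀ x, x ∈ Ohm 2 S ↔ x ∈ S ∧ x * x = 1 := fun x =>
    ⟨fun e => ⟨Ohm_le 2 S e, (pow_two x).symm.trans (h3.2 x e)⟩,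
      fun e => mem_Ohm e.1 ((pow_two x).trans e.2)⟩
  exact St.exists_se ⟨hs, hn, h2, hS, h4, h16.trans (card_le (le_Ohm h1 hB)),
    fun H h5 h6 => ks G S _ H h2 hk hS h4 h5 h6⟩

end Cfsg.Agent.W4
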