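import Cfsg.Agent.Lib.R1.Hyp3
import Cfsg.Agent.Lib.GW.Lift

/-!
# The structure of 2-local subgroups used in the rank at least 4 case of Walter's theorem
-/

set_option autoImplicit false

namespace Cfsg.Agent.W4

open Subgroup Cfsg.Agent.OO Cfsg.Agent.GW
open scoped commutatorElement Pointwise

universe u

variable {G : Type u} [Group G]

/-- `L` behaves like a lift of a simple component: with `W = A ⊓ L` and `C = A ⊓ C(L)` we have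
`A = W C`, an element of `L ⊓ N(S)` permutes `W^#` cyclically and `L` is the normal closure of `W` -/
structure PC (S A L : Subgroup G) : Prop where
  four : 2 < ♯(A ⊓ L)
  sup : A ≤ A ⊓ L ⊔ A ⊓ 𝐂(L)
  cyc : ∃ k ∈ L, k ∈ 𝐍(S) ∧ ∀ v ∈ A ⊓ L, ∀ w ∈ A ⊓ L, v ≠ 1 → w ≠ 1 →
    ∃ j : ℕ, k ^ j * v * (k ^ j)⁻¹ = w
  gen : ∀ X : Subgroup G, A ⊓ L ≤ X → L ≤ 𝐍(X) → L ≤ X

/-- `L` is a lift of a component of `H / O(H)` centralizing the complement of `S ⊓ L` in `S` -/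
structure Cp (S A H L : Subgroup G) : Prop extends PC S A L where
  le : L ≤ H
  inf : A ⊓ (L ⊔ O H) ≤ L
  norm2 : ∀ x ∈ H, (∃ n : ℕ, x ^ 2 ^ n = 1) → x ∈ 𝐍(L ⊔ O H)
  normO : ∀ Y ≤ H, Odd ♯Y → S ≤ 𝐍(Y) → Y ≤ 𝐍(L ⊔ O H)
  odd : ∀ Y ≤ L ⊔ O H, Odd ♯Y → L ≤ 𝐍(Y) → Y ≤ O H
  dich : ∀ M : Subgroup G, O H ≤ M → H ⊓ 𝐍(S) ≤ M → (∀ w ∈ A ⊓ L, w ≠ 1 → H ⊓ 𝐂[w] ≤ M) →
    L ≤ M ∨ ∀ Y ≤ H, Odd ♯Y → S ≤ 𝐍(Y) → ⁅Y, L⁆ ≤ O H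

/-- `𝓛` is a system of lifts of the components of `H / O(H)` -/
structure Fam (S A H : Subgroup G) (𝓛 : Set (Subgroup G)) : Prop where
  cp : ∀ L ∈ 𝓛, Cp S A H L
  comm : ∀ L ∈ 𝓛, ∀ L' ∈ 𝓛, L ≠ L' → A ⊓ L ≤ 𝐂(L')
  two : ∀ x ∈ H, (∃ n : ℕ, x ^ 2 ^ n = 1) → x ∈ O H ⊔ S ⊔ sSup 𝓛
  le_O : ∀ Y ≤ H, Odd ♯Y → S ≤ 𝐍(Y) → (∀ L ∈ 𝓛, ⁅Y, L⁆ ≤ O H) → Y ≤ O H

/-- the structure of the proper overgroups of a Sylow 2-subgroup -/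
def KS : Prop := ∀ (G : Type u) [Group G] [Finite G] (S A H : Subgroup G), R1.Ab2 G →
  R1.KHyp.{u} (Nat.card G) → Syl 2 S ⊤ → (∀ x, x ∈ A ↔ x ∈ S ∧ x * x = 1) → H ≠ ⊤ → S ≤ H →
  ∃ 𝓛, Fam S A H 𝓛

end Cfsg.Agent.W4
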