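import Cfsg.Agent.Lib.W4.Tools

/-!
# The action of `N(S)` on `Ω₁(S)`
-/

set_option autoImplicit false
set_option linter.unusedSectionVars false

namespace Cfsg.Agent.W4

open Subgroup Cfsg.Agent.OO Cfsg.Agent.GW Cfsg.Agent.Coprime
open scoped commutatorElement Pointwise

universe u

variable {G : Type u} [Group G] [Finite G] {A B C D H K L M N S W X Y Z : Subgroup G}
  {a b c g k m n w x y : G}

/-- the standing hypotheses -/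
structure St (S A : Subgroup G) : Prop where
  simple : IsSimpleGroup G
  nab : ¬ IsMulCommutative G
  ab2 : R1.Ab2 G
  syl : Syl 2 S ⊤
  mem : ∀ x, x ∈ A ↔ x ∈ S ∧ x * x = 1
  big : 16 ≤ ♯A
  fam : ∀ H : Subgroup G, H ≠ ⊤ → S ≤ H → ∃ 𝓛, Fam S A H 𝓛

theorem exists_two (hC : IsElementaryAbelian 2 C) (h : 2 < ♯C) (hx : x * x = 1) :
    ∃ y ∈ C, y ≠ 1 ∧ y ≠ x := by
  by_contra! e
  have h1 : C ≤ zpowers x := fun y hy => (mem_zp hx).2 (or_iff_not_imp_left.2 (e y hy))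
  have h2 := card_le h1
  rw [Nat.card_zpowers] at h2
  have := Nat.le_of_dvd two_pos (orderOf_dvd_of_pow_eq_one (pow_two x ▸ hx))
  omega

namespace St

theorem le (h : St S A) : A ≤ S := fun x hx => ((h.mem x).1 hx).1

theorem sq (h : St S A) (hx : x ∈ A) : x * x = 1 := ((h.mem x).1 hx).2

theorem ab (h : St S A) : Ab S := h.ab2 S h.syl.isPGroup

theorem abelem (h : St S A) (hB : B ≤ A) : IsElementaryAbelian 2 B :=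
  ⟨ab_of_le h.ab (hB.trans h.le), fun _ hx => (pow_two _).trans (h.sq (hB hx))⟩

theorem two (h : St S A) (hB : B ≤ A) : IsPGroup 2 B := abelem_isPGroup (h.abelem hB)

theorem le_cent (h : St S A) (hB : B ≤ A) : S ≤ 𝐂(B) := h.ab.le_cent.trans (cent_anti (hB.trans h.le))

theorem le_cent1 (h : St S A) (ha : a ∈ A) : S ≤ 𝐂[a] := h.ab.le_cent.trans (cent_le_cent1 (h.le ha))

theorem le_norm (h : St S A) (hB : B ≤ A) : S ≤ 𝐍(B) := le_norm_of_le_cent (h.le_cent hB)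

theorem comm (h : St S A) (ha : a ∈ A) (hb : b ∈ A) : a * b = b * a :=
  ab_iff.1 h.ab a (h.le ha) b (h.le hb)

theorem norm (h : St S A) : 𝐍(S) ≤ 𝐍(A) := le_norm_iff.2 fun _ hn x hx =>
  (h.mem _).2 ⟨conj_mem_of_norm hn (h.le hx), conj_sq (h.sq hx) _⟩

theorem conj_le (h : St S A) (hn : n ∈ 𝐍(S)) (hB : B ≤ A) : n •ᶜ B ≤ A :=
  conj_le_of_mem_norm (h.norm hn) hB

theorem norm_ne (h : St S A) (h0 : K ≠ ⊥) (h1 : K ≠ ⊤) : 𝐍(K) ≠ ⊤ := fun e =>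
  (h.simple.eq_bot_or_eq_top_of_normal K (normalIn_top.1 ⟨le_top, e.ge⟩)).elim h0 h1

theorem cent1_ne (h : St S A) (h1 : a ≠ 1) : 𝐂[a] ≠ ⊤ := fun e => by
  rcases h.simple.eq_bot_or_eq_top_of_normal (center G) inferInstance with h2 | h2
  · exact h1 (mem_bot.1 (h2 ▸ mem_center_iff.2 fun g => mem_cent1.1 (e.ge (mem_top g))))
  · exact h.nab ⟨⟨fun x y => mem_center_iff.1 (h2.ge (mem_top y)) x⟩⟩

theorem cent_ne (h : St S A) (h1 : B ≠ ⊥) : 𝐂(B) ≠ ⊤ := fun e => by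
  obtain ⟨b, hb, h2⟩ := exists_mem_ne_one h1
  exact h.cent1_ne h2 (eq_top_iff.2 (e.ge.trans (cent_le_cent1 hb)))

theorem fusion (h : St S A) (ha : a ∈ A) (hg : g * a * g⁻¹ ∈ S) :
    ∃ n ∈ 𝐍(S), n * g⁻¹ ∈ 𝐂[g * a * g⁻¹] := by
  have h1 : Syl 2 S 𝐂[g * a * g⁻¹] := h.syl.mono (h.ab.le_cent.trans (cent_le_cent1 hg)) le_top
  have h2 : Syl 2 (g •ᶜ S) 𝐂[g * a * g⁻¹] := (h.syl.conj_of_mem (mem_top g)).mono
    (cent1_conj g a ▸ conj_mono g (h.le_cent1 ha)) le_top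
  obtain ⟨c, hc, e⟩ := h2.exists_conj' h1
  exact ⟨c * g, conj_eq_self_iff.1 (conj_conj c g S ▸ e.symm), by rwa [mul_inv_cancel_right]⟩

theorem fusion' (h : St S A) (ha : a ∈ A) (hg : g * a * g⁻¹ ∈ S) :
    ∃ n ∈ 𝐍(S), n * a * n⁻¹ = g * a * g⁻¹ := by
  obtain ⟨n, hn, e⟩ := h.fusion ha hg
  exact ⟨n, hn, by rw [← mem_cent1_iff_conj.1 e]; group⟩

theorem not_le_cent1 (h : St S A) (ha : a ∈ A) (h1 : a ≠ 1) : ¬ 𝐍(S) ≤ 𝐂[a] := fun e => by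
  have h2 : der (⊤ : Subgroup G) = ⊤ :=
    (h.simple.eq_bot_or_eq_top_of_normal _ (normalIn_top.1 (der_normal ⊤))).resolve_left fun e' =>
      h.nab ⟨⟨fun x y => ab_iff.1 (ab_iff_der.2 e') x (mem_top x) y (mem_top y)⟩⟩
  have h3 : S ⊓ der ⊤ ≤ der 𝐍(S) := by
    rw [focal_subgroup_gen h.syl, closure_le]
    rintro _ ⟨x, hx, g, -, hg, rfl⟩
    have k1 : Syl 2 S 𝐂[g * x * g⁻¹] := h.syl.mono (h.ab.le_cent.trans (cent_le_cent1 hg)) le_top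
    have k2 : Syl 2 (g •ᶜ S) 𝐂[g * x * g⁻¹] := (h.syl.conj_of_mem (mem_top g)).mono
      (cent1_conj g x ▸ conj_mono g (h.ab.le_cent.trans (cent_le_cent1 hx))) le_top
    obtain ⟨c, hc, e⟩ := k2.exists_conj' k1
    rw [← mem_cent1_iff_conj.1 hc, show x⁻¹ * (c * (g * x * g⁻¹) * c⁻¹) = ⁅x⁻¹, c * g⁆ by
      simp only [commutatorElement_def]; group]
    exact commutator_mem_commutator (inv_mem (le_norm_self S hx))
      (conj_eq_self_iff.1 (conj_conj c g S ▸ e.symm))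
  refine h1 (eq_one_of_mem_Zc h.ab ⟨le_norm_self S (h.le ha), le_cent1_iff.1 e⟩
    (h3 ⟨h.le ha, h2.ge (mem_top a)⟩) ?_)
  rw [orderOf_eq_two (h.sq ha) h1, Nat.coprime_two_left, ← Nat.not_even_iff_odd, even_iff_two_dvd]
  exact (h.syl.mono (le_norm_self S) le_top).not_dvd

theorem noswap (h : St S A) (hn : n ∈ 𝐍(S)) (hX : X ≤ A) (h1 : n •ᶜ X = Y) (h2 : n •ᶜ Y = X) :
    X = Y := by
  obtain ⟨j, hj⟩ : Odd (S.relIndex 𝐍(S)) := by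
    rw [← Nat.not_even_iff_odd, even_iff_two_dvd]
    exact (h.syl.mono (le_norm_self S) le_top).not_dvd
  have h3 : n ^ S.relIndex 𝐍(S) ∈ S := by
    have := (normalIn_norm S).subgroupOf
    exact (S.subgroupOf 𝐍(S)).pow_index_mem ⟨n, hn⟩
  have h4 : n * n ∈ 𝐍(X) := conj_eq_self_iff.1 (by rw [← conj_conj, h1, h2])
  rw [hj, pow_succ', pow_mul, pow_two] at h3
  rw [← h1, ← conj_eq_of_mem_norm (pow_mem h4 j), conj_conj, conj_eq_of_mem_norm (pow_mem h4 j),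
    conj_eq_of_mem_norm (h.le_norm hX h3)]

end St

/-- `A = W C` and `k` centralizes `C` and permutes `W^#` cyclically -/
structure Lin (S A W C : Subgroup G) (k : G) : Prop where
  wle : W ≤ A
  cle : C ≤ A
  four : 2 < ♯W
  sup : A ≤ W ⊔ C
  kn : k ∈ 𝐍(S)
  kw : k ∈ 𝐍(W)
  kc : k ∈ 𝐂(C)
  cyc : ∀ v ∈ W, ∀ w ∈ W, v ≠ 1 → w ≠ 1 → ∃ j : ℕ, k ^ j * v * (k ^ j)⁻¹ = w

namespace Lin

variable (h : St S A) (l : Lin S A W C k)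
include h l

theorem dec (ha : a ∈ A) : ∃ w ∈ W, ∃ c ∈ C, w * c = a :=
  (mem_sup_norm_right ((l.wle.trans h.le).trans (h.le_norm l.cle))).1 (l.sup ha)

theorem nofix (hw : w ∈ W) (e : k * w * k⁻¹ = w) : w = 1 := by
  by_contra h1
  obtain ⟨v, hv, h2, h3⟩ := exists_two (h.abelem l.wle) l.four (h.sq (l.wle hw))
  obtain ⟨j, rfl⟩ := l.cyc w hw v hv h1 h2
  exact h3 (mem_cent1_iff_conj.1 (pow_mem (mem_cent1_iff_conj.2 e) j))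

theorem eq_one (hw : w ∈ W) (hc : w ∈ C) : w = 1 := l.nofix h hw (mem_cent_iff_conj.1 l.kc w hc)

theorem inf : W ⊓ C = ⊥ := eq_bot_iff.2 fun _ hw => l.eq_one h hw.1 hw.2

theorem card : ♯W * ♯C = ♯A := by
  rw [← card_sup_of_inf_eq_bot (.inl ((l.wle.trans h.le).trans (h.le_norm l.cle))) (l.inf h),
    le_antisymm (sup_le l.wle l.cle) l.sup]

theorem ne_bot : W ≠ ⊥ := fun e => by have := l.four; simp [e] at this

theorem not_le (h1 : W ≤ C) : False := l.ne_bot h (eq_bot_iff.2 (l.inf h ▸ le_inf le_rfl h1))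

omit l in
theorem conj_mul (hg : g ∈ 𝐂(C)) (hc : c ∈ C) : g * (w * c) * g⁻¹ = g * w * g⁻¹ * c := by
  nth_rw 2 [← mem_cent_iff_conj.1 hg c hc]; group

theorem mem_of_fix (ha : a ∈ A) (e : k * a * k⁻¹ = a) : a ∈ C := by
  obtain ⟨w, hw, c, hc, rfl⟩ := l.dec h ha
  rw [conj_mul h l.kc hc, mul_left_inj] at e
  rwa [l.nofix h hw e, one_mul]

theorem comm_mem (hg : g ∈ 𝐂(C)) (hn : g ∈ 𝐍(W)) (ha : a ∈ A) : g * a * g⁻¹ * a⁻¹ ∈ W := by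
  obtain ⟨w, hw, c, hc, rfl⟩ := l.dec h ha
  rw [conj_mul h hg hc, mul_inv_rev, mul_assoc, mul_inv_cancel_left]
  exact mul_mem (conj_mem_of_norm hn hw) (inv_mem hw)

theorem le_of_inf (hX : X ≤ A) (hn : k ∈ 𝐍(X)) (h1 : X ⊓ W = ⊥) : X ≤ C := fun x hx =>
  l.mem_of_fix h (hX hx) (mul_inv_eq_one.1 (mem_bot.1 (h1 ▸ show _ ∈ X ⊓ W from
    ⟨X.mul_mem (conj_mem_of_norm hn hx) (X.inv_mem hx), l.comm_mem h l.kc l.kw (hX hx)⟩)))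

theorem dich (hX : X ≤ A) (hn : k ∈ 𝐍(X)) : W ≤ X ∨ X ≤ C := by
  refine or_iff_not_imp_right.2 fun e w hw => ?_
  obtain ⟨v, hv, h1⟩ := exists_mem_ne_one fun e' => e (l.le_of_inf h hX hn e')
  by_cases h2 : w = 1
  · exact h2 ▸ one_mem X
  obtain ⟨j, rfl⟩ := l.cyc v hv.2 w hw h1 h2
  exact conj_mem_of_norm (pow_mem hn j) hv.1

theorem le_of_norm (hX : X ≤ A) (h1 : X ⊓ C = ⊥) {j : ℕ} (hn : k ^ j ∈ 𝐍(X)) (hw : w ∈ W)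
    (h2 : k ^ j * w * (k ^ j)⁻¹ ≠ w) : X ≤ W := by
  have h3 : ∀ x ∈ X, k ^ j * x * (k ^ j)⁻¹ = x → x = 1 := fun x hx e => by
    obtain ⟨v, hv, c, hc, rfl⟩ := l.dec h (hX hx)
    rw [conj_mul h (pow_mem l.kc j) hc, mul_left_inj] at e
    obtain rfl : v = 1 := by
      by_contra h4
      obtain ⟨i, rfl⟩ := l.cyc v hv w hw h4 (by rintro rfl; simp at h2)
      refine h2 ?_
      nth_rw 2 [← e]
      simp only [← mul_assoc, ← pow_add, add_comm i j]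
      simp only [mul_assoc, ← mul_inv_rev, ← pow_add, add_comm i j]
    exact mem_bot.1 (h1 ▸ show _ ∈ X ⊓ C from ⟨hx, by rwa [one_mul]⟩)
  let f : X → X := fun x => ⟨k ^ j * x * (k ^ j)⁻¹ * (x : G)⁻¹,
    mul_mem (conj_mem_of_norm hn x.2) (inv_mem x.2)⟩
  have h4 : Function.Injective f := fun x y e => by
    have e' : k ^ j * x * (k ^ j)⁻¹ * (x : G)⁻¹ = k ^ j * y * (k ^ j)⁻¹ * (y : G)⁻¹ :=
      congrArg Subtype.val e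
    refine (Subtype.ext (inv_mul_eq_one.1 (h3 _ (mul_mem (inv_mem y.2) x.2) ?_))).symm
    calc _ = (k ^ j * y * (k ^ j)⁻¹)⁻¹ * (k ^ j * x * (k ^ j)⁻¹ * (x : G)⁻¹) * x := by group
      _ = _ := by rw [e']; group
  intro x hx
  obtain ⟨y, e⟩ := Finite.injective_iff_surjective.1 h4 ⟨x, hx⟩
  have e' : k ^ j * y * (k ^ j)⁻¹ * (y : G)⁻¹ = x := congrArg Subtype.val e
  exact e' ▸ l.comm_mem h (pow_mem l.kc j) (pow_mem l.kw j) (hX y.2)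

variable (ti : ∀ n ∈ 𝐍(S), n •ᶜ C ≠ C → n •ᶜ C ⊓ C = ⊥)
include ti

omit h l in
theorem ti2 (hn : n ∈ 𝐍(S)) (hm : m ∈ 𝐍(S)) (h1 : x ∈ n •ᶜ C) (h2 : x ∈ m •ᶜ C) (hx : x ≠ 1) :
    n •ᶜ C = m •ᶜ C := by
  by_contra e
  have := ti (m⁻¹ * n) (mul_mem (inv_mem hm) hn) fun e' => e (by
    rw [← conj_conj, conj_eq_iff_eq_inv_conj, inv_inv] at e'; exact e')
  refine hx ?_
  have h3 : m⁻¹ * x * m ∈ (m⁻¹ * n) •ᶜ C ⊓ C :=
    ⟨mem_conj.2 (by convert mem_conj.1 h1 using 1; group), mem_conj.1 h2⟩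
  rw [this] at h3
  simpa [mul_assoc, inv_mul_eq_one] using h3

theorem out (hn : n ∈ 𝐍(S)) (h1 : n •ᶜ C ≠ C) (h2 : ¬ n •ᶜ C ≤ W) : n •ᶜ C ⊓ W = ⊥ ∧
    ∀ w ∈ W, ∀ c ∈ C, w ≠ 1 → c ≠ 1 → ∃ j : ℕ, w * c ∈ (k ^ j * n) •ᶜ C := by
  have hX := h.conj_le hn l.cle
  have k1 : ∀ v c, c ∈ C → c ≠ 1 → v * c ∈ n •ᶜ C → v ≠ 1 := by
    rintro v c hc h3 h4 rfl
    exact h3 (mem_bot.1 (ti n hn h1 ▸ show _ ∈ n •ᶜ C ⊓ C from ⟨one_mul c ▸ h4, hc⟩))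
  have k2 : ∀ v ∈ W, ∀ w ∈ W, ∀ c ∈ C, c ≠ 1 → v * c ∈ n •ᶜ C → w ≠ 1 →
      ∃ j : ℕ, k ^ j * v * (k ^ j)⁻¹ = w ∧ w * c ∈ (k ^ j * n) •ᶜ C := by
    intro v hv w hw c hc h3 h4 h5
    obtain ⟨j, rfl⟩ := l.cyc v hv w hw (k1 v c hc h3 h4) h5
    exact ⟨j, rfl, by
      rw [← conj_mul h (pow_mem l.kc j) hc, ← conj_conj]; exact conj_mem_conj h4⟩
  have k3 : n •ᶜ C ⊓ W = ⊥ := eq_bot_iff.2 fun w hw => by
    obtain ⟨x, hx, h3⟩ := SetLike.not_le_iff_exists.1 h2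
    obtain ⟨v, hv, c, hc, rfl⟩ := l.dec h (hX hx)
    have h4 : c ≠ 1 := by rintro rfl; exact h3 (by rwa [mul_one])
    have h5 : w * v * c ∈ n •ᶜ C := mul_assoc w v c ▸ mul_mem hw.1 hx
    obtain ⟨j, h6, h7⟩ := k2 v hv (w * v) (mul_mem hw.2 hv) c hc h4 hx (k1 _ c hc h4 h5)
    have h8 := ti2 ti (mul_mem (pow_mem l.kn j) hn) hn h7 h5 fun e =>
      h4 (l.eq_one h (eq_inv_of_mul_eq_one_right e ▸ inv_mem (mul_mem hw.2 hv)) hc)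
    by_contra h9
    exact h2 (l.le_of_norm h hX (ti n hn h1) (conj_eq_self_iff.1 ((conj_conj _ _ _).trans h8)) hv
      (by rw [h6]; simpa using h9))
  refine ⟨k3, fun w hw c hc h3 h4 => ?_⟩
  have k4 : A ≤ W ⊔ n •ᶜ C := (eq_of_le_of_card_le (sup_le l.wle hX) (by
    rw [card_sup_of_inf_eq_bot (.inl ((l.wle.trans h.le).trans (h.le_norm hX))) (inf_comm W _ ▸ k3),
      card_conj n C, l.card h])).ge
  obtain ⟨v, hv, x, hx, rfl⟩ := (mem_sup_norm_right ((l.wle.trans h.le).trans (h.le_norm hX))).1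
    (k4 (l.cle hc))
  exact (k2 v⁻¹ (inv_mem hv) w hw _ hc h4 (by rwa [inv_mul_cancel_left]) h3).imp fun _ e => e.2

theorem same (h0 : C ≠ ⊥) (hn : n ∈ 𝐍(S)) (hm : m ∈ 𝐍(S)) (h1 : n •ᶜ C ≠ C) (h2 : m •ᶜ C ≠ C)
    (h3 : n •ᶜ C ≤ W ↔ m •ᶜ C ≤ W) : ∃ j : ℕ, (k ^ j * n) •ᶜ C = m •ᶜ C := by
  obtain ⟨c, hc, h4⟩ := exists_mem_ne_one h0
  have h5 : ∀ g : G, g * c * g⁻¹ ≠ 1 := fun g => by simpa using h4
  by_cases e : n •ᶜ C ≤ W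
  · obtain ⟨j, hj⟩ := l.cyc _ (e (conj_mem_conj hc)) _ (h3.1 e (conj_mem_conj hc)) (h5 n) (h5 m)
    exact ⟨j, ti2 ti (mul_mem (pow_mem l.kn j) hn) hm
      (hj ▸ conj_conj (k ^ j) n C ▸ conj_mem_conj (conj_mem_conj hc)) (conj_mem_conj hc) (h5 m)⟩
  obtain ⟨w, hw, d, hd, e'⟩ := l.dec h (h.conj_le hm l.cle (conj_mem_conj hc))
  have h6 : w * d ∈ m •ᶜ C := e' ▸ conj_mem_conj hc
  obtain ⟨j, hj⟩ := (l.out h ti hn h1 e).2 w hw d hd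
    (by
      rintro rfl
      exact h5 m (mem_bot.1 (ti m hm h2 ▸ show _ ∈ m •ᶜ C ⊓ C from
        ⟨conj_mem_conj hc, e' ▸ (one_mul d).symm ▸ hd⟩)))
    (by
      rintro rfl
      exact h5 m (mem_bot.1 ((l.out h ti hm h2 (mt h3.2 e)).1 ▸ show _ ∈ m •ᶜ C ⊓ W from
        ⟨conj_mem_conj hc, e' ▸ (mul_one w).symm ▸ hw⟩)))
  exact ⟨j, ti2 ti (mul_mem (pow_mem l.kn j) hn) hm hj h6 (e' ▸ h5 m)⟩

theorem anti (h0 : C ≠ ⊥) (hn : n ∈ 𝐍(S)) (h1 : n •ᶜ C ≠ C) : n •ᶜ C ≤ W ↔ ¬ n⁻¹ •ᶜ C ≤ W := by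
  have h2 : n⁻¹ •ᶜ C ≠ C := fun e => h1 (conj_eq_iff_eq_inv_conj.2 e.symm)
  by_contra e
  obtain ⟨j, hj⟩ := l.same h ti h0 hn (inv_mem hn) h1 h2 (by tauto)
  exact h2 (h.noswap (mul_mem (pow_mem l.kn j) hn) l.cle hj (by
    rw [conj_conj, mul_inv_cancel_right, conj_eq_of_mem_cent (pow_mem l.kc j)])).symm

theorem xor (hn : n ∈ 𝐍(S)) (hm : m ∈ 𝐍(S)) (h1 : n •ᶜ C ≠ m •ᶜ C) (hx : x ∈ n •ᶜ C)
    (hy : y ∈ m •ᶜ C) (x1 : x ≠ 1) (y1 : y ≠ 1) : y ∈ n •ᶜ W ↔ x ∉ m •ᶜ W := by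
  have k : ∀ n m y, n ∈ 𝐍(S) → m ∈ 𝐍(S) → n •ᶜ C ≠ m •ᶜ C → y ∈ m •ᶜ C → y ≠ 1 →
      (n⁻¹ * m) •ᶜ C ≠ C ∧ (y ∈ n •ᶜ W ↔ (n⁻¹ * m) •ᶜ C ≤ W) := fun n m y hn hm h1 hy y1 => by
    have h2 : (n⁻¹ * m) •ᶜ C ≠ C := fun e => h1 (by
      rw [← conj_conj, conj_eq_iff_eq_inv_conj, inv_inv] at e; exact e.symm)
    have h3 : n⁻¹ * y * n ∈ (n⁻¹ * m) •ᶜ C := mem_conj.2 (by convert mem_conj.1 hy using 1; group)
    refine ⟨h2, fun e => by_contra fun e' => y1 ?_, fun e => mem_conj.2 (e h3)⟩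
    have h4 : n⁻¹ * y * n ∈ (n⁻¹ * m) •ᶜ C ⊓ W := ⟨h3, mem_conj.1 e⟩
    rw [(l.out h ti (mul_mem (inv_mem hn) hm) h2 e').1] at h4
    simpa [mul_assoc, inv_mul_eq_one] using h4
  have h0 : C ≠ ⊥ := by rintro rfl; simp [x1] at hx
  rw [(k n m y hn hm h1 hy y1).2, (k m n x hm hn h1.symm hx x1).2,
    l.anti h ti h0 (mul_mem (inv_mem hn) hm) (k n m y hn hm h1 hy y1).1, mul_inv_rev, inv_inv]

theorem cover (h0 : C ≠ ⊥) (hn : n ∈ 𝐍(S)) (h1 : n •ᶜ C ≠ C) (hx : x ∈ A) (x1 : x ≠ 1) :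
    ∃ m ∈ 𝐍(S), x ∈ m •ᶜ C := by
  obtain ⟨p, hp, q, hq, h2, h3, h4⟩ : ∃ p ∈ 𝐍(S), ∃ q ∈ 𝐍(S), p •ᶜ C ≤ W ∧ q •ᶜ C ≠ C ∧
      ¬ q •ᶜ C ≤ W := by
    by_cases e : n •ᶜ C ≤ W
    · exact ⟨n, hn, n⁻¹, inv_mem hn, e, fun e => h1 (conj_eq_iff_eq_inv_conj.2 e.symm),
        (l.anti h ti h0 hn h1).1 e⟩
    · exact ⟨n⁻¹, inv_mem hn, n, hn, not_not.1 (mt (l.anti h ti h0 hn h1).2 e), h1, e⟩
  obtain ⟨w, hw, c, hc, rfl⟩ := l.dec h hx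
  by_cases e : w = 1
  · exact ⟨1, one_mem _, by simpa [e] using hc⟩
  by_cases e' : c = 1
  · obtain ⟨d, hd, h5⟩ := exists_mem_ne_one h0
    obtain ⟨j, hj⟩ := l.cyc _ (h2 (conj_mem_conj hd)) w hw (by simpa using h5) e
    exact ⟨_, mul_mem (pow_mem l.kn j) hp, by
      rw [e', mul_one, ← hj, ← conj_conj]; exact conj_mem_conj (conj_mem_conj hd)⟩
  obtain ⟨j, hj⟩ := (l.out h ti hq h3 h4).2 w hw c hc e e'
  exact ⟨_, mul_mem (pow_mem l.kn j) hq, hj⟩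

theorem ti_false (h0 : C ≠ ⊥) (hn : n ∈ 𝐍(S)) (h1 : n •ᶜ C ≠ C) : False := by
  have k0 : ∀ g x : G, x ∈ g •ᶜ W → x ∈ g •ᶜ C → x = 1 := fun g x h2 h3 => by
    simpa [mul_assoc, inv_mul_eq_one] using l.eq_one h (mem_conj.1 h2) (mem_conj.1 h3)
  have k1 : ∀ m x y, m ∈ 𝐍(S) → x ∈ C → y ∈ m •ᶜ C → x ≠ 1 → y ∉ C → (y ∈ W ↔ x ∉ m •ᶜ W) :=
    fun m x y hm hx hy x1 y1 => by
      simpa using l.xor h ti (one_mem _) hm (fun e => y1 (by simpa [← e] using hy))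
        (by simpa using hx) hy x1 (by rintro rfl; exact y1 (one_mem _))
  obtain ⟨b, hb, b1⟩ := exists_mem_ne_one (l.ne_bot h)
  obtain ⟨m, hm, hb'⟩ := l.cover h ti h0 hn h1 (l.wle hb) b1
  have b2 : b ∉ C := fun e => b1 (l.eq_one h hb e)
  have k2 : ∀ a ∈ C, a ≠ 1 → a * b ∉ W ∧ a * b ≠ 1 := fun a ha a1 => by
    have : a * b ∉ W := fun e => a1 (l.eq_one h ((mul_mem_cancel_right hb).1 e) ha)
    exact ⟨this, fun e => this (e ▸ one_mem W)⟩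
  have k3 : ∀ a ∈ C, a ≠ 1 → a * b ∈ m •ᶜ W := fun a ha a1 => by
    obtain ⟨p, hp, h2⟩ := l.cover h ti h0 hn h1 (mul_mem (l.cle ha) (l.wle hb)) (k2 a ha a1).2
    have h3 := not_not.1 (mt (k1 p a _ hp ha h2 a1 fun e =>
      b2 ((mul_mem_cancel_left ha).1 e)).2 (k2 a ha a1).1)
    have h4 : a ∉ m •ᶜ W := (k1 m a b hm ha hb' a1 b2).1 hb
    exact not_not.1 (mt (l.xor h ti hp hm (fun e => (k2 a ha a1).1 ((k1 m a _ hm ha (e ▸ h2) a1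
      fun e => b2 ((mul_mem_cancel_left ha).1 e)).2 h4)) h2 hb' (k2 a ha a1).2 b1).2
      fun e => (k2 a ha a1).2 (k0 p _ (mul_mem h3 e) h2))
  obtain ⟨a, ha, a1⟩ := exists_mem_ne_one h0
  have k4 : ∀ c ∈ C, c ≠ 1 → c = a := fun c hc c1 => by
    by_contra e
    refine (k1 m (c * a⁻¹) b hm (mul_mem hc (inv_mem ha)) hb' (by rwa [Ne, mul_inv_eq_one]) b2).1 hb ?_
    simpa [mul_assoc] using mul_mem (k3 c hc c1) (inv_mem (k3 a ha a1))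
  have k5 : ∀ p x y, p ∈ 𝐍(S) → x ∈ A → y ∈ A → x ∉ p •ᶜ W → y ∉ p •ᶜ W → x * y ∈ p •ᶜ W := by
    intro p x y hp hx hy h2 h3
    obtain ⟨v, hv, c, hc, e⟩ := l.dec h (conj_mem_of_norm' (h.norm hp) hx)
    obtain ⟨w, hw, d, hd, e'⟩ := l.dec h (conj_mem_of_norm' (h.norm hp) hy)
    rw [mem_conj] at h2 h3 ⊢
    rw [k4 c hc (by rintro rfl; exact h2 (e ▸ mul_mem hv (one_mem W)))] at e
    rw [k4 d hd (by rintro rfl; exact h3 (e' ▸ mul_mem hw (one_mem W)))] at e'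
    rw [show p⁻¹ * (x * y) * p = p⁻¹ * x * p * (p⁻¹ * y * p) by group, ← e, ← e',
      h.comm (l.wle hw) (l.cle ha), mul_assoc, ← mul_assoc a, h.sq (l.cle ha), one_mul]
    exact mul_mem hv hw
  have k6 : 2 < ♯(W ⊓ m •ᶜ W) := by
    have h2 := card_sup_mul_card_inf (.inl ((l.wle.trans h.le).trans (h.le_norm (h.conj_le hm l.wle))))
    have h3 := card_le (sup_le l.wle (h.conj_le hm l.wle))
    have h4 := l.card h
    have h5 : ♯C ≤ 2 := not_lt.1 fun e => by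
      obtain ⟨c, hc, c1, c2⟩ := exists_two (h.abelem l.cle) e (h.sq (l.cle ha))
      exact c2 (k4 c hc c1)
    have h6 := h.big
    rw [card_conj] at h2
    by_contra! h7
    have h8 : ♯W * ♯W ≤ ♯W * ♯C * 2 := by rw [← h2, h4]; exact Nat.mul_le_mul h3 h7
    have h9 : 8 ≤ ♯W := by nlinarith
    nlinarith
  obtain ⟨p, hp, h2⟩ := l.cover h ti h0 hn h1 (mul_mem (l.cle ha) (l.wle hb)) (k2 a ha a1).2
  have k7 : ∀ t ∈ W ⊓ m •ᶜ W, t ≠ 1 → t ∉ p •ᶜ W := fun t ht t1 => by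
    obtain ⟨q, hq, h3⟩ := l.cover h ti h0 hn h1 (l.wle ht.1) t1
    have h4 := k5 q a b hq (l.cle ha) (l.wle hb)
      ((k1 q a t hq ha h3 a1 fun e => t1 (l.eq_one h ht.1 e)).1 ht.1)
      ((l.xor h ti hm hq (fun e => t1 (k0 m t ht.2 (e ▸ h3))) hb' h3 b1 t1).1 ht.2)
    exact (l.xor h ti hq hp (fun e => (k2 a ha a1).2 (k0 q _ h4 (e ▸ h2))) h3 h2 t1
      (k2 a ha a1).2).1 h4
  have k8 := h.abelem (inf_le_left.trans l.wle : W ⊓ m •ᶜ W ≤ A)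
  obtain ⟨x, hx, x1, -⟩ := exists_two k8 k6 (one_mul 1)
  obtain ⟨y, hy, y1, y2⟩ := exists_two k8 k6 (h.sq (l.wle hx.1))
  exact k7 _ (mul_mem hx hy) (fun e => y2 ((eq_inv_of_mul_eq_one_right e).trans
    (inv_eq (h.sq (l.wle hx.1))))) (k5 p x y hp (l.wle hx.1) (l.wle hy.1) (k7 x hx x1) (k7 y hy y1))

end Lin

end Cfsg.Agent.W4
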