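import Cfsg.Agent.Lib.W4.Pairs
import Cfsg.Agent.Lib.Sig.Two

/-!
# The signalizer functor
-/

set_option autoImplicit false
set_option linter.unusedSectionVars false

namespace Cfsg.Agent.W4

open Subgroup Cfsg.Agent.OO Cfsg.Agent.GW Cfsg.Agent.Coprime
open scoped commutatorElement Pointwise

universe u

variable {G : Type u} [Group G] [Finite G] {A B C C' D H K L L' M N S W W' X Y Z : Subgroup G}
  {a b c g k m n w x y : G} {𝓛 : Set (Subgroup G)}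

/-- the part of `Y` which is balanced with respect to `C` -/
def thC (C Y : Subgroup G) : Subgroup G := ⁅Y, C⁆ ⊔ Y ⊓ O 𝐂(C)

/-- the balanced part of `Y` -/
def th (S A Y : Subgroup G) : Subgroup G := Y ⊓ ⨅ (C) (_ : ∃ W, Mx S A W C), thC C Y

/-- balanced subgroups -/
def Good (S A X : Subgroup G) : Prop := ∀ W C, Mx S A W C → X ⊓ 𝐂(C) ≤ O 𝐂(C)

theorem thC_le (hn : C ≤ 𝐍(Y)) : thC C Y ≤ Y := sup_le (commutator_le_left' hn) inf_le_left

theorem le_thC (hC : IsPGroup 2 C) (h1 : X ≤ Y) (ho : Odd ♯Y) (hn : C ≤ 𝐍(X))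
    (h2 : X ⊓ 𝐂(C) ≤ O 𝐂(C)) : X ≤ thC C Y :=
  le_of_cent_prod (odd_of_le ho h1) hC hn ((commutator_mono h1 le_rfl).trans le_sup_left)
    ((le_inf (inf_le_left.trans h1) h2).trans le_sup_right)

theorem le_norm_thC (h1 : K ≤ 𝐍(Y)) (h2 : K ≤ 𝐍(C)) : K ≤ 𝐍(thC C Y) :=
  le_norm_sup (le_norm_commutator h1 h2) (le_norm_inf h1 (le_norm_O (le_norm_cent h2)))

theorem norm_thC (hC : IsPGroup 2 C) (ho : Odd ♯Y) (hn : C ≤ 𝐍(Y)) : Y ≤ 𝐍(thC C Y) :=
  le_of_cent_prod ho hC hn (le_norm_of_le le_sup_left)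
    (le_norm_thC (le_norm_of_le inf_le_left) (le_norm_of_le_cent inf_le_right))

theorem th_le : th S A Y ≤ Y := inf_le_left

theorem Mx.th_le (p : Mx S A W C) : th S A Y ≤ thC C Y := inf_le_right.trans (iInf₂_le C ⟨W, p⟩)

theorem le_norm_th (h1 : K ≤ 𝐍(Y)) (h2 : ∀ W C, Mx S A W C → K ≤ 𝐍(thC C Y)) : K ≤ 𝐍(th S A Y) :=
  le_norm_inf h1 (le_norm_iInf fun C => le_norm_iInf fun ⟨W, p⟩ => h2 W C p)

theorem Good.mono (h : Good S A Y) (h1 : X ≤ Y) : Good S A X := fun W C p =>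
  (inf_le_inf_right _ h1).trans (h W C p)

theorem Cp.comm_le_CM (h : St S A) (hS : S ≤ H) (l : Cp S A H L) (hY : Y ≤ H) (ho : Odd ♯Y)
    (hn : S ≤ 𝐍(Y)) (hC : C ≤ A ⊓ 𝐂(L)) : ⁅Y, C⁆ ≤ CM (O H) L :=
  (commutator_le_of_norm (l.norm_CM hY (l.normO Y hY ho hn))
    (hC.trans ((l.cent_eq h hS).ge.trans inf_le_right))).trans (CM_anti le_sup_left)

namespace St

variable (h : St S A)
include h

theorem gy (p : Mx S A W C) (ho : Odd ♯Y) (hn : S ≤ 𝐍(Y)) : ⁅Y, C⁆ ⊓ 𝐂(C) ≤ O 𝐂(C) := by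
  have hC := p.cle h
  refine lemG (h.abelem hC) p.1.1 Y ho ((hC.trans h.le).trans hn) (inf_le_right.trans (O_norm _))
    fun D hD h2 => ?_
  have h3 := card_mul_relIndex hD
  have h4 := p.rank h
  have h0 : D ≠ ⊥ := by rintro rfl; rw [card_bot, h2] at h3; omega
  have hS := h.le_cent (hD.trans hC)
  have h5 : S ≤ 𝐍(Y ⊓ 𝐂(D)) := le_norm_inf hn (le_norm_of_le hS)
  obtain ⟨𝓛, F⟩ := h.fam _ (h.cent_ne h0) hS
  refine (inf_le_inf_right _ (F.le_O' h hS (commutator_le_left' ((hC.trans h.le).trans h5))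
    inf_le_right (odd_of_le ho inf_le_left) h5 fun L hL => ?_)).trans (O_inf_le (cent_anti hD))
  obtain ⟨W', C', q, h6, h7⟩ := F.exists_mx (hD.trans hC) h0 le_rfl hL
  refine (F.cp L hL).comm_le_CM h hS inf_le_right (odd_of_le ho inf_le_left) h5
    (((q.tri h p).resolve_right fun e => ?_).2.ge.trans h7)
  obtain ⟨k, -, l⟩ := (F.cp L hL).toPC.lin h
  have h8 := card_sup_of_inf_eq_bot (.inl ((l.wle.trans h.le).trans (h.le_norm (hD.trans hC))))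
    (eq_bot_iff.2 (l.inf h ▸ inf_le_inf_left _ (le_inf (hD.trans hC)
      (le_cent_symm (F.cp L hL).le))))
  have h9 := card_le (sup_le (h6.trans e.1) hD)
  have := l.four
  have := card_pos' D
  nlinarith

theorem thC_inf (p : Mx S A W C) (ho : Odd ♯Y) (hn : S ≤ 𝐍(Y)) : thC C Y ⊓ 𝐂(C) ≤ O 𝐂(C) := by
  rw [thC, sup_inf_of_le_right (.inr (le_norm_commutator (le_norm_of_le inf_le_left)
    (le_norm_of_le_cent (inf_le_right.trans (O_le _))))) (inf_le_right.trans (O_le _))]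
  exact sup_le (h.gy p ho hn) inf_le_right

theorem good (ho : Odd ♯Y) (hn : S ≤ 𝐍(Y)) : Good S A (th S A Y) := fun _ _ p =>
  (inf_le_inf_right _ p.th_le).trans (h.thC_inf p ho hn)

theorem le_th (h1 : X ≤ Y) (ho : Odd ♯Y) (hn : A ≤ 𝐍(X)) (h2 : Good S A X) : X ≤ th S A Y :=
  le_inf h1 (le_iInf₂ fun C ⟨W, p⟩ => le_thC (h.two (p.cle h)) h1 ho ((p.cle h).trans hn) (h2 W C p))

theorem norm_th (hn : S ≤ 𝐍(Y)) : S ≤ 𝐍(th S A Y) :=
  le_norm_th hn fun _ _ p => le_norm_thC hn (h.le_norm (p.cle h))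

theorem norm_th' (ho : Odd ♯Y) (hn : S ≤ 𝐍(Y)) : Y ≤ 𝐍(th S A Y) :=
  le_norm_th (le_norm_self Y) fun _ _ p =>
    norm_thC (h.two (p.cle h)) ho (((p.cle h).trans h.le).trans hn)

theorem conj_th (ho : Odd ♯Y) (hY : S ≤ 𝐍(Y)) (hn : n ∈ 𝐍(S)) :
    n •ᶜ th S A Y ≤ th S A (n •ᶜ Y) := by
  refine h.le_th (conj_mono n th_le) (by rwa [card_conj]) (by
    rw [← conj_eq_of_mem_norm (h.norm hn), conj_le_norm_conj, conj_eq_of_mem_norm (h.norm hn)]
    exact h.le.trans (h.norm_th hY)) fun W C p => ?_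
  have := conj_mono n (h.good ho hY _ _ (p.conj h (inv_mem hn)))
  rwa [conj_inf, ← Opi_conj, ← cent_conj, conj_conj, mul_inv_cancel, map_one, one_smul] at this

theorem bal (hB : B ≤ A) (h0 : B ≠ ⊥) (hX : X ≤ 𝐂(B)) (ho : Odd ♯X) (hn : S ≤ 𝐍(X))
    (h1 : Good S A X) : X ≤ O 𝐂(B) := by
  have hS := h.le_cent hB
  obtain ⟨𝓛, F⟩ := h.fam _ (h.cent_ne h0) hS
  refine F.le_O' h hS le_rfl hX ho hn fun L hL => ?_
  obtain ⟨W, C, p, -, h2⟩ := F.exists_mx hB h0 le_rfl hL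
  have hC := p.cle h
  refine le_of_cent_prod ho (h.two hC) ((hC.trans h.le).trans hn)
    ((F.cp L hL).comm_le_CM h hS hX ho hn h2) ((le_inf (h1 W C p) (inf_le_left.trans hX)).trans
      ((F.cp L hL).le_CM inf_le_right (odd_of_le (odd_O _) inf_le_left)
        (le_norm_inf (le_norm_O (le_norm_of_le (h.le_cent hC))) (le_norm_of_le hS))
        (le_norm_inf (le_norm_O (le_norm_of_le (le_cent_symm (h2.trans inf_le_right))))
          (le_norm_of_le (F.cp L hL).le))))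

theorem normO (ha : a ∈ A) : S ≤ 𝐍(O 𝐂[a]) := (h.le_cent1 ha).trans (O_norm _)

theorem isSig : Sig.IsSig 2 A fun a => th S A (O 𝐂[a]) := by
  refine ⟨Nat.prime_two, h.abelem le_rfl, le_trans (by norm_num) h.big,
    fun a _ _ => th_le.trans (O_le _), fun a _ _ e => ?_,
    fun a ha _ => h.le.trans (h.norm_th (h.normO ha)),
    fun a _ _ => sol_of_odd (odd_of_le (odd_O _) th_le), fun a ha _ b hb b1 => ?_⟩
  · exact Nat.not_even_iff_odd.2 (odd_of_le (odd_O _) th_le) (even_iff_two_dvd.2 e)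
  have h1 : S ≤ 𝐍(th S A (O 𝐂[a]) ⊓ 𝐂[b]) :=
    le_norm_inf (h.norm_th (h.normO ha)) (le_norm_of_le (h.le_cent1 hb))
  have h2 := (h.good (odd_O _) (h.normO ha)).mono (inf_le_left : _ ⊓ 𝐂[b] ≤ _)
  refine h.le_th ?_ (odd_O _) (h.le.trans h1) h2
  rw [← cent_zpowers b] at *
  exact h.bal (zpowers_le.2 hb) (by simpa using b1) inf_le_right
    (odd_of_le (odd_O _) (inf_le_left.trans th_le)) h1 h2

theorem nrm (l : PC S A L) (p : Mx S A W C) (ho : Odd ♯Y) (hn : S ≤ 𝐍(Y)) (hL : L ≤ 𝐍(Y))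
    (h0 : A ⊓ 𝐂(L) ⊓ C ≠ ⊥) : L ≤ 𝐍(thC C Y) := by
  obtain ⟨W', C', q, h1, h2⟩ := Pr.exists_mx ⟨ne_bot_of_le_ne_bot h0 inf_le_left, L, l, rfl, rfl⟩
  rcases q.tri h p with e | e
  · exact le_norm_thC hL (le_norm_of_le_cent (le_cent_symm (e.2.ge.trans (h2.trans inf_le_right))))
  replace h1 := h1.trans e.1
  clear e h2 q W' C'
  have hC := p.cle h
  set D := A ⊓ 𝐂(L) ⊓ C
  have hD : D ≤ A := inf_le_right.trans hC
  have hS := h.le_cent hD
  have hLD : L ≤ 𝐂(D) := le_cent_symm (inf_le_left.trans inf_le_right)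
  have hX : 𝐂(C) ≤ 𝐂(D) := cent_anti inf_le_right
  have h2 : S ≤ 𝐍(Y ⊓ 𝐂(D)) := le_norm_inf hn (le_norm_of_le hS)
  have h3 : L ≤ 𝐍(Y ⊓ 𝐂(D)) := le_norm_inf hL (le_norm_of_le hLD)
  have hCY := (hC.trans h.le).trans hn
  have h4 : ⁅Y ⊓ 𝐂(D), L⁆ ≤ thC C Y := by
    refine le_thC (h.two hC) ((commutator_le_left' h3).trans inf_le_left) ho (le_norm_commutator
      ((hC.trans h.le).trans h2) (hC.trans (l.sup.trans (sup_le (le_norm_of_le inf_le_right)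
        (le_norm_of_le_cent inf_le_right))))) ?_
    obtain ⟨𝓛, F⟩ := h.fam _ (h.cent_ne p.1.1) (h.le_cent hC)
    obtain ⟨𝓜, F'⟩ := h.fam _ (h.cent_ne h0) hS
    refine F.le_O' h (h.le_cent hC) (inf_le_inf_right _ ((commutator_le_left' h3).trans inf_le_left))
      inf_le_right (odd_of_le ho inf_le_left) (le_norm_inf hn (le_norm_of_le (h.le_cent hC)))
      fun K hK => le_CM.2 ⟨inf_le_right.trans (O_norm _), le_trans (le_inf ?_
        (commutator_le_of_le inf_le_right (F.cp K hK).le)) (O_inf_le hX)⟩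
    obtain ⟨J, hJ, h5, -, h6⟩ := F'.pu h hS (F.cp K hK).toPC ((F.cp K hK).le.trans hX)
    obtain ⟨W', C', q, h7, h8⟩ := F'.exists_mx hD h0 le_rfl hJ
    obtain ⟨k, -, l'⟩ := (F.cp K hK).toPC.lin h
    have h9 := ((q.tri h p).resolve_right fun e => l'.not_le h ((h5.trans (h7.trans e.1)).trans
      (le_inf hC (le_cent_symm (F.cp K hK).le)))).2
    have h10 : L ≤ CM (O 𝐂(D)) (J ⊔ O 𝐂(D)) := l.gen _ ((h1.trans (h9.ge.trans h8)).trans
      (((F'.cp J hJ).cent_eq h hS).ge.trans inf_le_right))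
      ((F'.cp J hJ).norm_CM hLD ((l.le_T2 h hLD).trans (F'.cp J hJ).T2_le))
    exact (le_CM.1 ((inf_le_left.trans (commutator_le_of_norm ((F'.cp J hJ).norm_CM inf_le_right
      ((F'.cp J hJ).normO _ inf_le_right (odd_of_le ho inf_le_left) h2)) h10)).trans (CM_anti h6))).2
  have h5 : ⁅Y, D⁆ ≤ thC C Y := (commutator_mono le_rfl inf_le_right).trans le_sup_left
  have h6 : thC C Y = ⁅Y, D⁆ ⊔ thC C Y ⊓ 𝐂(D) := le_antisymm (le_of_cent_prod
    (odd_of_le ho (thC_le hCY)) (h.two hD) ((hD.trans h.le).trans (le_norm_thC hn (h.le_norm hC)))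
    ((commutator_mono (thC_le hCY) le_rfl).trans le_sup_left) le_sup_right) (sup_le h5 inf_le_left)
  rw [h6]
  exact le_norm_sup (le_norm_commutator hL (le_norm_of_le_cent hLD)) (le_norm_of_commutator_le
    (inf_le_inf_right _ (thC_le hCY)) (le_inf h4 ((commutator_le_left' h3).trans inf_le_right)))

theorem th_normal (ha : a ∈ A) (a1 : a ≠ 1)
    (h1 : ∀ W C W' C', Mx S A W C → Mx S A W' C' → (zpowers a ⊔ C) ⊓ C' ≠ ⊥) :
    𝐂[a] ≤ 𝐍(th S A (O 𝐂[a])) := by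
  obtain ⟨𝓛, F⟩ := h.fam _ (h.cent1_ne a1) (h.le_cent1 ha)
  refine F.le h (h.le_cent1 ha) (h.norm_th' (odd_O _) (h.normO ha)) (fun n hn => ?_) fun L hL => ?_
  · exact mem_norm_of_conj_le ((h.conj_th (odd_O _) (h.normO ha) hn.2).trans
      (by rw [conj_eq_of_mem_norm (O_norm _ hn.1)]))
  obtain ⟨W, C, p, -, h2⟩ := F.exists_mx (zpowers_le.2 ha) (by simpa using a1) (cent_zpowers a).ge hL
  exact le_norm_th (F.cp L hL).normO' fun W' C' q => h.nrm (F.cp L hL).toPC q (odd_O _) (h.normO ha)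
    (F.cp L hL).normO' (ne_bot_of_le_ne_bot (h1 W C W' C' p q) (inf_le_inf_right _
      (sup_le (zpowers_le.2 ⟨ha, le_cent1_iff.1 (F.cp L hL).le⟩) h2)))

/-- the completion -/
theorem exists_compl : ∃ E : Subgroup G, Odd ♯E ∧ 𝐍(S) ≤ 𝐍(E) ∧
    ∀ a ∈ A, a ≠ 1 → E ⊓ 𝐂[a] = th S A (O 𝐂[a]) := by
  obtain ⟨E, h1, h2⟩ := Sig.complete_two h.isSig
  have h3 : Odd ♯E := Nat.not_even_iff_odd.1 fun e => h1.cop (even_iff_two_dvd.1 e)
  refine ⟨E, h3, fun n hn => mem_norm_of_conj_le (conj_le_iff_le_inv_conj.2 (gen1 (h.abelem le_rfl)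
    (lt_of_lt_of_le (by norm_num) h.big) h3 h1.norm fun a ha a1 => (h1.le a ha a1).trans ?_)),
    fun a ha a1 => le_antisymm (h1.le a ha a1) (le_inf (h2 a ha a1) (th_le.trans (O_le _)))⟩
  rw [← conj_le_iff_le_inv_conj]
  refine (h.conj_th (odd_O _) (h.normO ha) hn).trans ?_
  rw [← Opi_conj, ← cent1_conj]
  exact h2 _ (conj_mem_of_norm (h.norm hn) ha) (by simpa using a1)

end St

end Cfsg.Agent.W4
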