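import Cfsg.Agent.Lib.W4.Lin

/-!
# Pump-ups and maximal pairs
-/

set_option autoImplicit false
set_option linter.unusedSectionVars false

namespace Cfsg.Agent.W4

open Subgroup Cfsg.Agent.OO Cfsg.Agent.GW Cfsg.Agent.Coprime
open scoped commutatorElement Pointwise

universe u

variable {G : Type u} [Group G] [Finite G] {A B C C' D H K L L' M N S W W' X Y Z : Subgroup G}
  {a b c g k m n w x y : G} {𝓛 : Set (Subgroup G)}

namespace PC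

theorem lin (h : St S A) (l : PC S A L) : ∃ k ∈ L, Lin S A (A ⊓ L) (A ⊓ 𝐂(L)) k := by
  obtain ⟨k, h1, h2, h3⟩ := l.cyc
  exact ⟨k, h1, inf_le_left, inf_le_left, l.four, l.sup, h2,
    mem_norm_inf (h.norm h2) (le_norm_self L h1), le_cent_symm inf_le_right h1, h3⟩

theorem conj (h : St S A) (l : PC S A L) (hn : n ∈ 𝐍(S)) : PC S A (n •ᶜ L) := by
  have e := conj_eq_of_mem_norm (h.norm hn)
  obtain ⟨k, h1, h2, h3⟩ := l.cyc
  refine ⟨by rw [← e, ← conj_inf, card_conj]; exact l.four,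
    by rw [cent_conj, ← e, ← conj_inf, ← conj_inf, ← conj_sup]; exact conj_mono n l.sup,
    ⟨_, conj_mem_conj h1, mul_mem (mul_mem hn h2) (inv_mem hn), fun v hv w hw v1 w1 => ?_⟩,
    fun X h4 h5 => ?_⟩
  · rw [← e, ← conj_inf, mem_conj] at hv hw
    obtain ⟨j, hj⟩ := h3 _ hv _ hw (by simpa [mul_assoc, inv_mul_eq_one] using v1)
      (by simpa [mul_assoc, inv_mul_eq_one] using w1)
    refine ⟨j, ?_⟩
    calc _ = n * (k ^ j * (n⁻¹ * v * n) * (k ^ j)⁻¹) * n⁻¹ := by rw [conj_pow]; group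
      _ = w := by rw [hj]; group
  · rw [← e, ← conj_inf] at h4
    rw [conj_le_iff_le_inv_conj] at h4 h5 ⊢
    exact l.gen _ h4 (h5.trans (norm_conj _ _).ge)

theorem le_T2 (h : St S A) (l : PC S A L) (hL : L ≤ H) : L ≤ T2 H :=
  (l.gen _ (W4.le_T2 inf_le_right (h.two inf_le_left)) (le_norm_T2 (le_norm_self L))).trans
    (T2_mono hL)

end PC

namespace Cp

theorem T2_le (l : Cp S A H L) : T2 H ≤ 𝐍(L ⊔ O H) := T2_le_iff.2 l.norm2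

theorem normO' (l : Cp S A H L) : L ≤ 𝐍(O H) := l.le.trans (O_norm H)

theorem le' (l : Cp S A H L) : L ⊔ O H ≤ H := sup_le l.le (O_le H)

theorem inf_eq (l : Cp S A H L) : A ⊓ (L ⊔ O H) = A ⊓ L :=
  le_antisymm (le_inf inf_le_left l.inf) (inf_le_inf_left _ le_sup_left)

theorem cent_eq (h : St S A) (hS : S ≤ H) (l : Cp S A H L) :
    A ⊓ CM (O H) (L ⊔ O H) = A ⊓ 𝐂(L) := by
  refine le_antisymm (fun a ha => ?_) (le_inf inf_le_left (le_CM_sup (le_CM_of_cent inf_le_right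
    ((inf_le_left.trans (h.le.trans hS)).trans (O_norm H))) l.normO'))
  obtain ⟨k, hk, l'⟩ := l.toPC.lin h
  refine l'.mem_of_fix h ha.1 (mul_inv_eq_one.1 (mem_bot.1 ?_))
  rw [← inf_eq_bot_odd (h.two le_rfl) (odd_O H)]
  exact ⟨l'.wle (l'.comm_mem h l'.kc l'.kw ha.1), by
    simpa [commutatorElement_def, mul_assoc] using (O H).inv_mem (ha.2.2 k (mem_sup_left hk))⟩

theorem le_CM (l : Cp S A H L) (hY : Y ≤ H) (ho : Odd ♯Y) (hS : S ≤ 𝐍(Y)) (hL : L ≤ 𝐍(Y)) :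
    Y ≤ CM (O H) L :=
  W4.le_CM.2 ⟨hY.trans (O_norm H), (le_inf (commutator_le_left' hL)
    (commutator_le_of_norm (l.normO Y hY ho hS) le_sup_left)).trans (l.odd _ inf_le_right
      (odd_of_le ho inf_le_left) (le_norm_inf hL (le_norm_of_le le_sup_left)))⟩

theorem norm_CM (l : Cp S A H L) (hY : Y ≤ H) (h : Y ≤ 𝐍(L ⊔ O H)) :
    Y ≤ 𝐍(CM (O H) (L ⊔ O H)) := le_norm_CM (hY.trans (O_norm H)) h

end Cp

namespace Fam

theorem T2_le (F : Fam S A H 𝓛) : T2 H ≤ O H ⊔ S ⊔ sSup 𝓛 := T2_le_iff.2 F.two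

theorem le (h : St S A) (hS : S ≤ H) (F : Fam S A H 𝓛) (h1 : O H ≤ M) (h2 : H ⊓ 𝐍(S) ≤ M)
    (h3 : ∀ L ∈ 𝓛, L ≤ M) : H ≤ M :=
  (le_T2_sup h.syl hS).trans (sup_le (F.T2_le.trans (sup_le (sup_le h1
    ((le_inf hS (le_norm_self S)).trans h2)) (sSup_le h3))) h2)

theorem le_O' (h : St S A) (hS : S ≤ H) (F : Fam S A H 𝓛) (h1 : X ≤ Y) (hY : Y ≤ H) (ho : Odd ♯Y)
    (hn : S ≤ 𝐍(Y)) (h2 : ∀ L ∈ 𝓛, X ≤ CM (O H) L) : X ≤ O H := by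
  refine (le_inf h1 (le_iInf₂ fun L hL => le_CM_sup (h2 L hL) (F.cp L hL).normO')).trans
    (F.le_O _ (inf_le_left.trans hY) (odd_of_le ho inf_le_left) (le_norm_inf hn
      (le_norm_iInf fun L => le_norm_iInf fun hL => (F.cp L hL).norm_CM hS
        ((le_T2 hS h.syl.isPGroup).trans (F.cp L hL).T2_le))) fun L hL => ?_)
  exact (W4.le_CM.1 ((inf_le_right.trans (iInf₂_le L hL)).trans (CM_anti le_sup_left))).2

/-- pump-up -/
theorem pu (h : St S A) (hS : S ≤ H) (F : Fam S A H 𝓛) (l : PC S A K) (hK : K ≤ H) :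
    ∃ L ∈ 𝓛, A ⊓ K ≤ A ⊓ L ∧ A ⊓ 𝐂(L) ≤ A ⊓ 𝐂(K) ∧ K ≤ L ⊔ O H := by
  obtain ⟨k, hk, l'⟩ := l.lin h
  have k1 : ∀ L ∈ 𝓛, K ≤ 𝐍(L ⊔ O H) := fun L hL => (l.le_T2 h hK).trans (F.cp L hL).T2_le
  have k2 : ∀ L ∈ 𝓛, k ∈ 𝐍(A ⊓ 𝐂(L)) := fun L hL => (F.cp L hL).cent_eq h hS ▸
    mem_norm_inf (h.norm l'.kn) ((F.cp L hL).norm_CM hK (k1 L hL) hk)
  by_contra! e
  have k3 : ∀ L ∈ 𝓛, A ⊓ L ≤ A ⊓ 𝐂(K) := fun L hL => by
    refine (l'.dich h inf_le_left ((F.cp L hL).inf_eq ▸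
      mem_norm_inf (h.norm l'.kn) (k1 L hL hk))).resolve_left fun h1 => ?_
    obtain ⟨_, -, l2⟩ := (F.cp L hL).toPC.lin h
    exact e L hL h1 (l'.le_of_inf h inf_le_left (k2 L hL) (eq_bot_iff.2 (l2.inf h ▸
      le_inf (inf_le_right.trans h1) inf_le_left)))
      (l.gen _ (h1.trans (inf_le_right.trans le_sup_left)) (k1 L hL))
  obtain ⟨w, hw, w1⟩ := exists_mem_ne_one (l'.ne_bot h)
  have h1 := l'.comm_mem h l'.kc l'.kw hw.1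
  have h2 : zpowers (k * w * k⁻¹ * w⁻¹) ≤ A := zpowers_le.2 h1.1
  have h3 : T2 H ≤ CM (O H) (zpowers (k * w * k⁻¹ * w⁻¹)) := F.T2_le.trans (sup_le (sup_le
    (le_CM.2 ⟨le_norm_self _, commutator_le_left' ((h2.trans (h.le.trans hS)).trans (O_norm H))⟩)
    (le_CM_of_cent (h.le_cent h2) (hS.trans (O_norm H)))) (sSup_le fun L hL =>
      le_CM_of_cent (le_cent_symm (zpowers_le.2 ?_)) (F.cp L hL).normO'))
  · refine w1 (l'.nofix h hw (mul_inv_eq_one.1 (l'.nofix h h1 (mul_inv_eq_one.1 (mem_bot.1 ?_)))))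
    rw [← inf_eq_bot_odd (h.two le_rfl) (odd_O H)]
    exact ⟨l'.wle (l'.comm_mem h l'.kc l'.kw h1.1), (h3 (l.le_T2 h hK hk)).2 _ (mem_zpowers _)⟩
  · obtain ⟨_, -, l2⟩ := (F.cp L hL).toPC.lin h
    obtain ⟨v, hv, c, hc, rfl⟩ := l2.dec h hw.1
    rw [h.comm hv.1 hc.1, Lin.conj_mul h l'.kc (k3 L hL hv), mul_inv_rev, mul_assoc,
      mul_inv_cancel_left]
    exact (mul_mem (conj_mem_of_norm (k2 L hL) hc) (inv_mem hc)).2

end Fam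

/-- pairs -/
def Pr (S A W C : Subgroup G) : Prop := C ≠ ⊥ ∧ ∃ L, PC S A L ∧ A ⊓ L = W ∧ A ⊓ 𝐂(L) = C

/-- maximal pairs -/
def Mx (S A W C : Subgroup G) : Prop :=
  Pr S A W C ∧ ∀ W' C', Pr S A W' C' → W ≤ W' → C' ≤ C → W' ≤ W

theorem Pr.lin (h : St S A) (p : Pr S A W C) : ∃ k, Lin S A W C k := by
  obtain ⟨-, L, l, rfl, rfl⟩ := p
  obtain ⟨k, -, l'⟩ := l.lin h
  exact ⟨k, l'⟩

theorem Pr.conj (h : St S A) (p : Pr S A W C) (hn : n ∈ 𝐍(S)) : Pr S A (n •ᶜ W) (n •ᶜ C) := by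
  obtain ⟨h0, L, l, rfl, rfl⟩ := p
  have e := conj_eq_of_mem_norm (h.norm hn)
  exact ⟨fun e => h0 (conj_eq_bot_iff.1 e), _, l.conj h hn, by rw [conj_inf, e], by rw [conj_inf, e, cent_conj]⟩

theorem Pr.exists_mx (p : Pr S A W C) : ∃ W' C', Mx S A W' C' ∧ W ≤ W' ∧ C' ≤ C := by
  obtain ⟨W', ⟨C', h1, h2, h3⟩, h4⟩ := (wellFounded_gt (α := Subgroup G)).has_min
    {W' | ∃ C', Pr S A W' C' ∧ W ≤ W' ∧ C' ≤ C} ⟨W, C, p, le_rfl, le_rfl⟩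
  exact ⟨W', C', ⟨h1, fun W'' C'' h5 h6 h7 => (h6.eq_or_lt.resolve_right
    (h4 W'' ⟨C'', h5, h2.trans h6, h7.trans h3⟩)).ge⟩, h2, h3⟩

theorem Fam.exists_mx (F : Fam S A H 𝓛) (hB : B ≤ A) (h0 : B ≠ ⊥) (hH : H ≤ 𝐂(B)) (hL : L ∈ 𝓛) :
    ∃ W C, Mx S A W C ∧ A ⊓ L ≤ W ∧ C ≤ A ⊓ 𝐂(L) :=
  Pr.exists_mx ⟨ne_bot_of_le_ne_bot h0 (le_inf hB (le_cent_symm ((F.cp L hL).le.trans hH))), L,
    (F.cp L hL).toPC, rfl, rfl⟩

namespace Mx

theorem lin (h : St S A) (p : Mx S A W C) : ∃ k, Lin S A W C k := p.1.lin h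

theorem wle (h : St S A) (p : Mx S A W C) : W ≤ A := (p.lin h).elim fun _ l => l.wle

theorem cle (h : St S A) (p : Mx S A W C) : C ≤ A := (p.lin h).elim fun _ l => l.cle

theorem not_le (h : St S A) (p : Mx S A W C) (h1 : W ≤ C) : False :=
  (p.lin h).elim fun _ l => l.not_le h h1

theorem inf (h : St S A) (p : Mx S A W C) : W ⊓ C = ⊥ := (p.lin h).elim fun _ l => l.inf h

theorem sup (h : St S A) (p : Mx S A W C) : A ≤ W ⊔ C := (p.lin h).elim fun _ l => l.sup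

theorem four (h : St S A) (p : Mx S A W C) : 2 < ♯W := (p.lin h).elim fun _ l => l.four

theorem conj (h : St S A) (p : Mx S A W C) (hn : n ∈ 𝐍(S)) : Mx S A (n •ᶜ W) (n •ᶜ C) :=
  ⟨p.1.conj h hn, fun W' C' h1 h2 h3 => le_conj_iff_inv_conj_le.2 (p.2 _ _ (h1.conj h (inv_mem hn))
    (conj_le_iff_le_inv_conj.1 h2) (le_conj_iff_inv_conj_le.1 h3))⟩

theorem eq (h : St S A) (p : Mx S A W C) (q : Pr S A W' C') (h1 : W ≤ W') (h2 : C' ≤ C) :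
    W' = W ∧ C' = C := by
  obtain rfl := le_antisymm (p.2 _ _ q h1 h2) h1
  obtain ⟨k, l⟩ := p.lin h
  obtain ⟨k', l'⟩ := q.lin h
  exact ⟨rfl, eq_of_le_of_card_le h2 (Nat.eq_of_mul_eq_mul_left (card_pos' _)
    ((l.card h).trans (l'.card h).symm)).le⟩

theorem pu (h : St S A) (p : Mx S A W C) (hS : S ≤ H) (F : Fam S A H 𝓛) (hB : B ≤ A) (h0 : B ≠ ⊥)
    (hH : H ≤ 𝐂(B)) (hC : 𝐂(C) ≤ H) : ∃ L ∈ 𝓛, A ⊓ L = W ∧ A ⊓ 𝐂(L) = C := by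
  obtain ⟨-, K, l, rfl, rfl⟩ := id p.1
  obtain ⟨L, hL, h1, h2, -⟩ := F.pu h hS l ((le_cent_symm inf_le_right).trans hC)
  exact ⟨L, hL, p.eq h ⟨ne_bot_of_le_ne_bot h0 (le_inf hB (le_cent_symm ((F.cp L hL).le.trans hH))),
    L, (F.cp L hL).toPC, rfl, rfl⟩ h1 h2⟩

theorem tri0 (h : St S A) (p : Mx S A W C) (q : Mx S A W' C') (h0 : C ⊓ C' ≠ ⊥) :
    W = W' ∧ C = C' ∨ W ≤ C' ∧ W' ≤ C := by
  have h1 : C ⊓ C' ≤ A := inf_le_left.trans (p.cle h)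
  obtain ⟨𝓛, F⟩ := h.fam _ (h.cent_ne h0) (h.le_cent h1)
  obtain ⟨L, hL, rfl, rfl⟩ := p.pu h (h.le_cent h1) F h1 h0 le_rfl (cent_anti inf_le_left)
  obtain ⟨L', hL', rfl, rfl⟩ := q.pu h (h.le_cent h1) F h1 h0 le_rfl (cent_anti inf_le_right)
  by_cases e : L = L'
  · exact .inl ⟨e ▸ rfl, e ▸ rfl⟩
  · exact .inr ⟨le_inf inf_le_left (F.comm L hL L' hL' e),
      le_inf inf_le_left (F.comm L' hL' L hL (Ne.symm e))⟩

theorem norm (h : St S A) (p : Mx S A W C) (h1 : ∀ n ∈ 𝐍(S), ¬ W ≤ n •ᶜ C ∨ ¬ n •ᶜ W ≤ C) :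
    𝐍(S) ≤ 𝐍(C) ∧ 𝐍(S) ≤ 𝐍(W) := by
  obtain ⟨k, l⟩ := p.lin h
  have h2 : 𝐍(S) ≤ 𝐍(C) := fun n hn => conj_eq_self_iff.1 (by_contra fun e =>
    l.ti_false h (fun n hn e => by_contra fun e' => ((p.conj h hn).tri0 h p e').elim
      (fun e' => e e'.2) fun e' => (h1 n hn).elim (· e'.2) (· e'.1)) p.1.1 hn e)
  exact ⟨h2, fun n hn => conj_eq_self_iff.1 (((p.conj h hn).tri0 h p (by
    rw [conj_eq_of_mem_norm (h2 hn), inf_idem]; exact p.1.1)).elim (·.1)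
      fun e' => ((h1 n hn).elim (· e'.2) (· e'.1)).elim)⟩

theorem rank (h : St S A) (p : Mx S A W C) : 2 < ♯C := by
  by_contra! e
  obtain ⟨a, ha, a1⟩ := exists_mem_ne_one p.1.1
  refine h.not_le_cent1 (p.cle h ha) a1 fun n hn => mem_cent1_iff_conj.2 (by_contra fun e' => ?_)
  have h1 := conj_mem_of_norm ((p.norm h fun n _ => .inl fun e' => by
    have := (p.four h).trans_le (card_le e'); rw [card_conj] at this; omega).1 hn) ha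
  have h2 : C ≤ zpowers a := (eq_of_le_of_card_le (zpowers_le.2 ha) (by
    rwa [Nat.card_zpowers, orderOf_eq_two (h.sq (p.cle h ha)) a1])).ge
  exact ((mem_zp (h.sq (p.cle h ha))).1 (h2 h1)).elim (by simpa using a1) e'

theorem tri (h : St S A) (p : Mx S A W C) (q : Mx S A W' C') :
    W = W' ∧ C = C' ∨ W ≤ C' ∧ W' ≤ C := by
  wlog hle : ♯W' ≤ ♯W generalizing W C W' C'
  · exact (this q p (Nat.le_of_not_le hle)).imp (fun e => ⟨e.1.symm, e.2.symm⟩) And.symm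
  by_cases h0 : C ⊓ C' = ⊥
  swap
  · exact p.tri0 h q h0
  obtain ⟨k, l⟩ := p.lin h
  obtain ⟨k', l'⟩ := q.lin h
  have h1 : ♯C ≤ ♯W' := Nat.le_of_mul_le_mul_right (by
    rw [l'.card h, ← card_sup_of_inf_eq_bot (.inl ((l.cle.trans h.le).trans (h.le_norm l'.cle))) h0]
    exact card_le (sup_le l.cle l'.cle)) (card_pos' C')
  obtain ⟨h2, h3⟩ := p.norm h fun n hn => by
    by_contra! e
    have e1 := eq_of_le_of_card_le e.1 (by rw [card_conj]; omega)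
    have e2 := eq_of_le_of_card_le e.2 (by rw [card_conj]; omega)
    exact l.not_le h (h.noswap hn l.wle e2 e1.symm).le
  have h4 := (l'.dich h l.cle (h2 l'.kn)).resolve_right fun e => p.1.1 (by rw [← h0, inf_eq_left.2 e])
  exact .inr ⟨(l'.dich h l.wle (h3 l'.kn)).resolve_left fun e =>
    l'.ne_bot h (eq_bot_iff.2 (l.inf h ▸ le_inf e h4)), h4⟩

end Mx

end Cfsg.Agent.W4
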